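import Groth.Agent.HenselHom.Main
import Groth.Agent.MultTypeExt.Main
import Groth.Agent.MultTypeQI.Recognize
import Groth.Agent.FlatLocus.Basic
import Groth.Agent.GrpSchLib.HomSplitLocal
import Groth.Agent.GrpSchLib.MultTypeBC
import Groth.Agent.MultTypeLib.SchemeBridge
import Groth.Agent.QuasiSect.Split
import Groth.Prelude.Def_TwC

/-!
# Passage between schemes and Hopf algebras for the open and closed subgroup
-/

universe u

open CategoryTheory CategoryTheory.Limits MonoidalCategory CartesianMonoidalCategory MonObj GrpObj AlgebraicGeometry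
open TensorProduct

set_option backward.isDefEq.respectTransparency.types false

noncomputable section

namespace Groth.Agent.HenselHom

open GrpSchLib.AffineHopf
open Groth.Agent.MultTypeLib (mA baseChangeTrans)

/-- The spectrum map of an algebra. -/
abbrev specAlg (A B : Type u) [CommRing A] [CommRing B] [Algebra A B] :
    Spec (CommRingCat.of B) ⟶ Spec (CommRingCat.of A) :=
  Spec.map (CommRingCat.ofHom (algebraMap A B))

/-- Stalkwise flatness, algebraically. -/
theorem flat_atPrime_of_stalk {A C : Type u} [CommRing A] [CommRing C] [Algebra A C] {S X : Scheme.{u}}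
    (j : Spec (CommRingCat.of A) ⟶ S) [IsOpenImmersion j] (u : Spec (CommRingCat.of C) ⟶ X) [IsOpenImmersion u]
    (g : X ⟶ S) (h : u ≫ g = specAlg A C ≫ j) (q : PrimeSpectrum C) (hq : (g.stalkMap (u q)).hom.Flat) :
    Module.Flat A (Localization.AtPrime q.asIdeal) := by
  have h1 : ((u ≫ g).stalkMap q).hom.Flat := by
    rw [Scheme.Hom.stalkMap_comp]
    exact (FlatLocus.flat_comp_isIso _ _).mpr hq
  rw [h, Scheme.Hom.stalkMap_comp] at h1
  have hiso : ∀ z, IsIso (j.stalkMap z) := fun z => inferInstance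
  have h2 := (@FlatLocus.flat_isIso_comp _ _ _ _ (hiso _) _).mp h1
  let p := q.asIdeal.comap (algebraMap A C)
  let Ap := Localization.AtPrime p
  let Cq := Localization.AtPrime q.asIdeal
  let ψ : Ap →+* Cq := Localization.localRingHom p q.asIdeal (algebraMap A C) rfl
  have h3 : ψ.Flat :=
    ((RingHom.toMorphismProperty RingHom.Flat).arrow_mk_iso_iff
      (Scheme.arrowStalkMapSpecIso (CommRingCat.ofHom (algebraMap A C)) q)).mp h2
  let _ : Algebra Ap Cq := ψ.toAlgebra
  have : IsScalarTower A Ap Cq := IsScalarTower.of_algebraMap_eq fun r => by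
    show algebraMap A Cq r = ψ (algebraMap A Ap r)
    rw [Localization.localRingHom_to_map]
    exact IsScalarTower.algebraMap_apply A C Cq r
  have : Module.Flat Ap Cq := h3
  exact (Module.flat_iff_of_isLocalization Ap p.primeCompl Cq).mp this

/-- The residue point of a point of an affine chart. -/
theorem exists_residue_iso {A : Type u} [CommRing A] {S : Scheme.{u}} (j : Spec (CommRingCat.of A) ⟶ S)
    [IsOpenImmersion j] (p : PrimeSpectrum A) :
    ∃ σ : Spec (CommRingCat.of p.asIdeal.ResidueField) ⟶ Spec (S.residueField (j p)), IsIso σ ∧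
      σ ≫ S.fromSpecResidueField (j p) = specAlg A p.asIdeal.ResidueField ≫ j := by
  refine ⟨Spec.map (j.residueFieldMap p ≫ (Scheme.Spec.residueFieldIso (CommRingCat.of A) p).hom), ?_, ?_⟩
  · have : IsIso (j.residueFieldMap p) := inferInstance
    infer_instance
  · rw [Spec.map_comp, Category.assoc, Scheme.Hom.SpecMap_residueFieldMap_fromSpecResidueField,
      ← Scheme.Spec.map_residueFieldIso_inv_eq_fromSpecResidueField, Category.assoc, ← Spec.map_comp_assoc,
      Iso.inv_hom_id]
    simp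

/-- The fibre as a Hopf algebra. -/
theorem isMultType_fibre_of_scheme {A C : Type u} [CommRing A] [CommRing C] [HopfAlgebra A C] {S : Scheme.{u}}
    (H : Over S) [GrpObj H] (j : Spec (CommRingCat.of A) ⟶ S) [IsOpenImmersion j]
    (eC : Grp.mk (sp A C) ≅ Grp.mk (Red.bc j H)) (p : PrimeSpectrum A)
    (hs : SGA3x.IsMultTypeFT (Red.bc (S.fromSpecResidueField (j p)) H)) :
    SGA3b.IsMultType p.asIdeal.ResidueField (p.asIdeal.ResidueField ⊗[A] C) := by
  obtain ⟨σ, -, hσ⟩ := exists_residue_iso j p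
  let κ := p.asIdeal.ResidueField
  obtain ⟨e₁⟩ := nonempty_bc_sp (R := A) κ C
  obtain ⟨e₂⟩ := GrpSchLib.MultTypeBC.bc_iso (specAlg A κ) eC
  obtain ⟨e₃⟩ := GrpSchLib.MultTypeBC.bc_bc (specAlg A κ) j H
  obtain ⟨e₄⟩ := GrpSchLib.MultTypeBC.bc_congr hσ.symm H
  obtain ⟨e₅⟩ := GrpSchLib.MultTypeBC.bc_bc σ (S.fromSpecResidueField (j p)) H
  exact MultTypeExt.isMultType_of_isMultTypeFT (GrpSchLib.MultTypeBC.isMultTypeFT_bc σ hs)
    (e₁.symm ≪≫ e₂ ≪≫ e₃ ≪≫ e₄ ≪≫ e₅.symm)

/-- A point whose prime lies over the kernel of a point with trivial residue extension sees the kernel of the fibre. -/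
theorem mem_of_eq_zero {A C V : Type u} [CommRing A] [CommRing C] [HopfAlgebra A C] [CommRing V] [Algebra A V]
    {p : Ideal A} [p.IsPrime] (τ : V →ₐ[A] p.ResidueField) (P : Ideal (V ⊗[A] C)) [P.IsPrime]
    (hP : P.comap (algebraMap V (V ⊗[A] C)) = RingHom.ker τ) {x : V ⊗[A] C} (hx : mA C τ x = 0) : x ∈ P := by
  let Q := RingHom.ker τ.toRingHom
  have : Q.IsPrime := RingHom.ker_isPrime _
  let lam : Q.ResidueField →+* p.ResidueField := Ideal.ResidueField.lift Q τ.toRingHom le_rfl
    fun v hv => isUnit_iff_ne_zero.mpr fun h => hv (RingHom.mem_ker.mpr h)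
  have hlam : ∀ v, lam (algebraMap V Q.ResidueField v) = τ v := fun v => Ideal.ResidueField.lift_algebraMap Q _ _ _ v
  have hbij : Function.Bijective lam := by
    refine ⟨lam.injective, fun y => ?_⟩
    obtain ⟨a, s, hs, rfl⟩ := IsFractionRing.div_surjective (A ⧸ p) y
    obtain ⟨a, rfl⟩ := Ideal.Quotient.mk_surjective a
    obtain ⟨s, rfl⟩ := Ideal.Quotient.mk_surjective s
    refine ⟨algebraMap V _ (algebraMap A V a) / algebraMap V _ (algebraMap A V s), ?_⟩
    rw [map_div₀, hlam, hlam, AlgHom.commutes, AlgHom.commutes, Ideal.algebraMap_quotient_residueField_mk,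
      Ideal.algebraMap_quotient_residueField_mk]
  let L := P.ResidueField
  let g : Q.ResidueField →+* L := Ideal.ResidueField.lift Q ((algebraMap (V ⊗[A] C) L).comp (algebraMap V (V ⊗[A] C)))
    (fun v hv => Ideal.algebraMap_residueField_eq_zero.mpr (show v ∈ P.comap (algebraMap V _) from hP.ge hv))
    fun v hv => isUnit_iff_ne_zero.mpr fun h => hv (hP.le (show v ∈ P.comap (algebraMap V _) from
      (Ideal.algebraMap_residueField_eq_zero (I := P)).mp h))
  let β : p.ResidueField →+* L := g.comp (RingEquiv.ofBijective lam hbij).symm.toRingHom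
  have hβ : ∀ v, β (τ v) = algebraMap (V ⊗[A] C) L (algebraMap V (V ⊗[A] C) v) := fun v => by
    rw [← hlam]
    show g ((RingEquiv.ofBijective lam hbij).symm (RingEquiv.ofBijective lam hbij (algebraMap V Q.ResidueField v))) = _
    rw [RingEquiv.symm_apply_apply]
    exact Ideal.ResidueField.lift_algebraMap Q _ _ _ v
  let βA : p.ResidueField →ₐ[A] L :=
    { β with
      commutes' := fun a => by
        show β (algebraMap A _ a) = _
        rw [← τ.commutes, hβ, ← IsScalarTower.algebraMap_apply A V, ← IsScalarTower.algebraMap_apply A (V ⊗[A] C)] }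
  let Ψ : p.ResidueField ⊗[A] C →ₐ[A] L := Algebra.TensorProduct.lift βA
    ((IsScalarTower.toAlgHom A (V ⊗[A] C) L).comp Algebra.TensorProduct.includeRight) fun _ _ => .all _ _
  have hΨ : ∀ z, Ψ (mA C τ z) = algebraMap (V ⊗[A] C) L z := by
    intro z
    induction z using TensorProduct.induction_on with
    | zero => simp
    | add a b ha hb => simp only [map_add, ha, hb]
    | tmul v c =>
      rw [Algebra.TensorProduct.map_tmul, Algebra.TensorProduct.lift_tmul, AlgHom.id_apply]
      show β (τ v) * algebraMap (V ⊗[A] C) L (1 ⊗ₜ c) = _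
      rw [hβ, ← map_mul, Algebra.TensorProduct.algebraMap_apply, Algebra.TensorProduct.tmul_mul_tmul]
      simp
  refine Ideal.algebraMap_residueField_eq_zero.mp ?_
  rw [← hΨ, hx, map_zero]

section Immersion

variable {A C : Type u} [CommRing A] [CommRing C] [HopfAlgebra A C] {V : Type u} [CommRing V] [Algebra A V]
  (o : OpenClosed A C V)

/-- The immersion of an open and closed subgroup. -/
abbrev OpenClosed.imm : sp V o.D ⟶ sp V (V ⊗[A] C) := spMap (o.π : V ⊗[A] C →ₐ[V] o.D)

instance : IsClosedImmersion o.imm.left :=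
  IsClosedImmersion.spec_of_surjective _ o.surj

instance : IsOpenImmersion o.imm.left := by
  let _ : Algebra (V ⊗[A] C) o.D := (o.π : V ⊗[A] C →ₐ[V] o.D).toRingHom.toAlgebra
  have : IsLocalization.Away (1 - o.x) o.D := by
    refine IsLocalization.away_of_isIdempotentElem o.idem.one_sub ?_ o.surj
    rw [sub_sub_cancel]
    exact o.ker_eq
  exact IsOpenImmersion.of_isLocalization (1 - o.x)

theorem OpenClosed.mem_range_imm (P : PrimeSpectrum (V ⊗[A] C)) (hP : o.x ∈ P.asIdeal) :
    P ∈ Set.range o.imm.left := by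
  show P ∈ Set.range (PrimeSpectrum.comap (o.π : V ⊗[A] C →ₐ[V] o.D).toRingHom)
  rw [range_comap_of_surjective _ _ o.surj]
  show (RingHom.ker (o.π : V ⊗[A] C →ₐ[V] o.D) : Set (V ⊗[A] C)) ⊆ (P.asIdeal : Set (V ⊗[A] C))
  rw [o.ker_eq]
  exact (Ideal.span_singleton_le_iff_mem _).mpr hP

end Immersion

/-- An isotrivial group of finite type splits over the open and closed pieces of a finite étale cover. -/
theorem exists_split_cover {V D : Type u} [CommRing V] [Nontrivial V] [CommRing D] [HopfAlgebra V D]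
    [Algebra.FiniteType V D] (h : SGA3b.IsIsotrivial V D) :
    SGA3x.IsMultTypeFT (sp V D) ∧ TwC.Locally (Spec (CommRingCat.of V)) TwC.Topology.finiteEtale
      (fun S'' g => ∃ (M : Type) (_ : AddCommGroup M), AddGroup.FG M ∧
        Nonempty (Grp.mk (Red.bc g (sp V D)) ≅ Grp.mk (Red.DS S'' M))) := by
  obtain ⟨E, _, _, het, hfin, hff, M, _, ⟨eM⟩⟩ := h
  have : Nontrivial E := by
    obtain ⟨⟨q, hq⟩⟩ := (inferInstance : Nonempty (PrimeSpectrum V))
    obtain ⟨⟨r, hr⟩, -⟩ := PrimeSpectrum.comap_surjective_of_faithfullyFlat (A := V) (B := E) ⟨q, hq⟩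
    exact ⟨⟨0, 1, fun h => hr.ne_top (r.eq_top_iff_one.mpr (h ▸ r.zero_mem))⟩⟩
  have hM : Group.FG M := MonoidAlgebra.finiteType_iff_group_fg.mp
    ((inferInstance : Algebra.FiniteType E (E ⊗[V] D)).equiv (eM : E ⊗[V] D ≃ₐ[E] MonoidAlgebra E M))
  obtain ⟨N, _, hN, ⟨eN⟩⟩ := MultTypeQI.exists_small_group M hM
  let v := specAlg V E
  haveI : IsFinite v := (IsFinite.SpecMap_iff _).mpr (RingHom.finite_algebraMap.mpr hfin)
  haveI : Etale v := (HasRingHomProperty.Spec_iff (P := @Etale)).mpr (RingHom.etale_algebraMap.mpr het)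
  haveI : Surjective v := ⟨PrimeSpectrum.comap_surjective_of_faithfullyFlat⟩
  obtain ⟨e₁⟩ := nonempty_bc_sp (R := V) E D
  obtain ⟨e₂⟩ := nonempty_DS_iso E N
  let e : Grp.mk (Red.bc v (sp V D)) ≅ Grp.mk (Red.DS (Spec (CommRingCat.of E)) N) :=
    e₁ ≪≫ spIso ((MonoidAlgebra.domCongrBialgEquiv E E eN).trans eM.symm) ≪≫ e₂
  refine ⟨MultTypeQI.isMultTypeFT_of_etale_locally fun s => ?_, Spec (CommRingCat.of E), v, inferInstance,
    inferInstance, inferInstance, fun y => ⟨⊤, trivial, isClosed_univ, N, inferInstance, hN, ?_⟩⟩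
  · obtain ⟨y, hy⟩ := v.surjective s
    exact ⟨_, v, inferInstance, ⟨y, hy⟩, N, inferInstance, hN, ⟨e⟩⟩
  · let U : (Spec (CommRingCat.of E)).Opens := ⊤
    obtain ⟨d₁⟩ := GrpSchLib.MultTypeBC.bc_bc U.ι v (sp V D)
    obtain ⟨d₂⟩ := GrpSchLib.MultTypeBC.bc_iso U.ι e
    obtain ⟨d₃⟩ := GrpSchLib.MultTypeBC.bc_DS U.ι N
    exact ⟨d₁.symm ≪≫ d₂ ≪≫ d₃⟩

end Groth.Agent.HenselHom
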