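import Groth.Agent.HenselHom.Descend
import Groth.Agent.MultTypeLib.CompleteHom
import Groth.Agent.MultTypeLib.CompleteIso
import Groth.Agent.MultTypeLib.LocalCriteria
import Groth.Agent.MultTypeLib.TwistLift
import Groth.Agent.MultTypeLib.QuasiIso
import Groth.Agent.BrnchLib.Compl
import Groth.Agent.S2969
import Mathlib.RingTheory.Ideal.IdempotentFG
import Mathlib.RingTheory.AdicCompletion.LocalRing

/-!
# The open and closed subgroup of multiplicative type over a Noetherian henselian local ring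

Over the completion it exists; it is a quotient of the group by a homomorphism, and homomorphisms into a
group with closed fibre of multiplicative type descend from the completion.
-/

universe u

open TensorProduct IsLocalRing
open Groth.Agent.MultTypeLib

noncomputable section

namespace Groth.Agent.HenselHom

theorem flat_of_isotrivial {R : Type u} [CommRing R] {B : Type u} [CommRing B] [HopfAlgebra R B]
    (h : SGA3b.IsIsotrivial R B) : Module.Flat R B := by
  obtain ⟨E, _, _, -, -, hff, hd⟩ := h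
  obtain ⟨M, _, hom, equiv, he⟩ := exists_split_of_isDiag E hd
  let P : Split R B := { S := E, M := M, hom := hom, equiv := equiv, equiv_tmul := he }
  have : Module.FaithfullyFlat R P.S := hff
  exact P.flat_self

theorem exists_isotrivial_closedFibre {R : Type u} [CommRing R] [HenselianLocalRing R]
    {C : Type u} [CommRing C] [HopfAlgebra R C] [Algebra.FiniteType R C]
    (hs : SGA3b.IsMultType (ResidueField R) (ResidueField R ⊗[R] C)) :
    ∃ (B : Type u) (_ : CommRing B) (_ : HopfAlgebra R B), SGA3b.IsIsotrivial R B ∧ Algebra.FiniteType R B ∧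
      Nonempty ((R ⧸ maximalIdeal R) ⊗[R] B ≃ₐc[R ⧸ maximalIdeal R] (R ⧸ maximalIdeal R) ⊗[R] C) := by
  have h0 : SGA3b.IsIsotrivial (R ⧸ maximalIdeal R) ((R ⧸ maximalIdeal R) ⊗[R] C) :=
    isIsotrivial_of_field_ext (ResidueField R) (ResidueField R) (ResidueField R ⊗[R] C) inferInstance
      (isMultType_baseChange (ResidueField R) hs)
  obtain ⟨B, _, _, hB, -, ⟨eB⟩⟩ := exists_isotrivial_lift (maximalIdeal R) _ h0
  refine ⟨B, inferInstance, inferInstance, hB, ?_, ⟨eB⟩⟩
  obtain ⟨E, _, _, -, hfin, hff, hd⟩ := id hB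
  obtain ⟨M, _, hom, equiv, he⟩ := exists_split_of_isDiag E hd
  have : Nontrivial E := by
    obtain ⟨⟨q, hq⟩, -⟩ := PrimeSpectrum.comap_surjective_of_faithfullyFlat (A := R) (B := E)
      (IsLocalRing.closedPoint R)
    exact ⟨⟨0, 1, fun h => hq.ne_top (q.eq_top_iff_one.mpr (h ▸ q.zero_mem))⟩⟩
  -- the character group is finitely generated, by the closed fibre
  let ρ : E ⊗[R] (R ⧸ maximalIdeal R) →ₐ[E] E ⧸ (maximalIdeal R).map (algebraMap R E) :=
    Algebra.TensorProduct.lift (Algebra.ofId E _) (Ideal.Quotient.liftₐ (maximalIdeal R) (Algebra.ofId R _)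
      fun r hr => by
        rw [Algebra.ofId_apply, IsScalarTower.algebraMap_apply R E]
        exact Ideal.Quotient.eq_zero_iff_mem.mpr (Ideal.mem_map_of_mem _ hr)) fun _ _ => .all _ _
  let E₀ := E ⊗[R] (R ⧸ maximalIdeal R)
  let _ : Algebra (R ⧸ maximalIdeal R) E₀ := Algebra.TensorProduct.rightAlgebra
  have : IsScalarTower R (R ⧸ maximalIdeal R) E₀ := Algebra.TensorProduct.right_isScalarTower
  have : Nontrivial E₀ := Module.FaithfullyFlat.lTensor_nontrivial R E (R ⧸ maximalIdeal R)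
  have hT : Algebra.FiniteType E₀ (E₀ ⊗[R] B) := by
    have : Algebra.FiniteType (R ⧸ maximalIdeal R) ((R ⧸ maximalIdeal R) ⊗[R] B) :=
      Algebra.FiniteType.equiv inferInstance
        (eB.symm : (R ⧸ maximalIdeal R) ⊗[R] C ≃ₐ[R ⧸ maximalIdeal R] (R ⧸ maximalIdeal R) ⊗[R] B)
    exact Algebra.FiniteType.equiv inferInstance
      (baseChangeTrans (R := R) (R ⧸ maximalIdeal R) E₀ B).symm.toAlgEquiv
  let P : Split R B :=
    { S := E, M := M, hom := hom, equiv := equiv, equiv_tmul := he }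
  let jE : P.S →ₐ[R] E₀ := Algebra.TensorProduct.includeLeft
  have : Group.FG M := MonoidAlgebra.finiteType_iff_group_fg.mp
    (hT.equiv (AlgEquiv.ofBijective (P.coordAt jE : E₀ ⊗[R] B →ₐ[E₀] MonoidAlgebra E₀ P.M)
      (P.coordAt_bijective jE)))
  have : Monoid.FG M := Group.fg_iff_monoid_fg.mp this
  have hEB : Algebra.FiniteType E (E ⊗[R] B) := Algebra.FiniteType.equiv inferInstance equiv.symm
  exact Algebra.FiniteType.of_finiteType_tensorProduct_of_faithfullyFlat E

set_option maxHeartbeats 2000000 in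
/-- Over a complete base: the subgroup is the given lift of the closed fibre. -/
theorem exists_surj_complete {T : Type u} [CommRing T] [IsNoetherianRing T] (I : Ideal T) [IsAdicComplete I T]
    {X : Type u} [CommRing X] [HopfAlgebra T X] [Algebra.FiniteType T X]
    (hlev : ∀ k : ℕ, Module.Flat (T ⧸ I ^ (k + 1)) ((T ⧸ I ^ (k + 1)) ⊗[T] X))
    (h0 : SGA3b.IsIsotrivial (T ⧸ I) ((T ⧸ I) ⊗[T] X))
    {Y : Type u} [CommRing Y] [HopfAlgebra T Y] (hY : SGA3b.IsIsotrivial T Y)
    (β₀ : (T ⧸ I) ⊗[T] Y ≃ₐc[T ⧸ I] (T ⧸ I) ⊗[T] X) :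
    ∃ (f : X) (u : X →ₐc[T] Y), IsIdempotentElem f ∧ f ∈ I.map (algebraMap T X) ∧ Function.Surjective u ∧
      ∀ z, u z = 0 ↔ z ∈ Ideal.span {f} := by
  obtain ⟨f, hf, hfI, hHopf, hD⟩ := exists_open_closed_isotrivial I inferInstance hlev h0
  have := hHopf
  let eD : (T ⧸ I) ⊗[T] X →ₐc[T ⧸ I] (T ⧸ I) ⊗[T] (X ⧸ Ideal.span {f}) :=
    bcHom (T ⧸ I) (Bialgebra.Quotient.mkBialgHom (R := T) (Ideal.span {f}))
  have hker0 : (1 : T ⧸ I) ⊗ₜ[T] f = 0 := by
    rw [← TensorProduct.tmul_zero X (1 : T ⧸ I), one_tmul_eq_iff_mem, sub_zero,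
      Ideal.smul_top_eq_map]
    exact hfI
  have heD : Function.Bijective eD := by
    constructor
    · rw [injective_iff_map_eq_zero]
      intro z hz
      change Bialgebra.TensorProduct.map (BialgHom.id (T ⧸ I) (T ⧸ I))
        (Bialgebra.Quotient.mkBialgHom (R := T) (Ideal.span {f})) z = 0 at hz
      rw [bcQuot_apply, ker_bc_quot, Ideal.map_span, Set.image_singleton, Ideal.mem_span_singleton] at hz
      obtain ⟨w, rfl⟩ := hz
      rw [Algebra.TensorProduct.includeRight_apply, hker0, zero_mul]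
    · exact LinearMap.lTensor_surjective (T ⧸ I) (g := (Ideal.Quotient.mkₐ T (Ideal.span {f})).toLinearMap)
        Ideal.Quotient.mk_surjective
  let β := β₀.trans (BialgEquiv.ofBijective eD heD)
  have hDflat := flat_of_isotrivial hD
  have hYflat := flat_of_isotrivial hY
  have hqD : SGA3b.IsQuasiIsotrivial (T ⧸ I) ((T ⧸ I) ⊗[T] (X ⧸ Ideal.span {f})) :=
    isQuasiIsotrivial_congr (BialgEquiv.ofBijective eD heD) (isQuasiIsotrivial_of_isMultType inferInstance (by
      obtain ⟨E, _, _, -, -, hff, hd⟩ := h0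
      exact isMultType_of_ff E hd))
  have hqY : SGA3b.IsQuasiIsotrivial (T ⧸ I) ((T ⧸ I) ⊗[T] Y) := isQuasiIsotrivial_congr β.symm hqD
  have hflD := fun (q : Ideal (X ⧸ Ideal.span {f})) [q.IsPrime]
      (_ : I.map (algebraMap T (X ⧸ Ideal.span {f})) ≤ q) => flat_at_of_flat (R := T) q
  have hflY := fun (q : Ideal Y) [q.IsPrime] (_ : I.map (algebraMap T Y) ≤ q) => flat_at_of_flat (R := T) q
  obtain ⟨u, hu⟩ := exists_bialgHom_lift_complete' I hflD hqD hY
    (β.symm : (T ⧸ I) ⊗[T] (X ⧸ Ideal.span {f}) →ₐc[T ⧸ I] (T ⧸ I) ⊗[T] Y)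
  obtain ⟨v, hv⟩ := exists_bialgHom_lift_complete' I hflY hqY hD
    (β : (T ⧸ I) ⊗[T] Y →ₐc[T ⧸ I] (T ⧸ I) ⊗[T] (X ⧸ Ideal.span {f}))
  have huv : v.comp u = BialgHom.id T (X ⧸ Ideal.span {f}) := bialgHom_ext_complete I hflD hqD hD _ _ fun c => by
    show (1 : T ⧸ I) ⊗ₜ[T] v (u c) = (1 : T ⧸ I) ⊗ₜ[T] c
    rw [← hv (u c), ← hu c]
    exact β.apply_symm_apply _
  have hvu : u.comp v = BialgHom.id T Y := bialgHom_ext_complete I hflY hqY hY _ _ fun c => by
    show (1 : T ⧸ I) ⊗ₜ[T] u (v c) = (1 : T ⧸ I) ⊗ₜ[T] c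
    rw [← hu (v c), ← hv c]
    exact β.symm_apply_apply _
  refine ⟨f, u.comp (Bialgebra.Quotient.mkBialgHom (R := T) (Ideal.span {f})), hf, hfI, fun y => ?_, fun z => ?_⟩
  · obtain ⟨z, hz⟩ := Ideal.Quotient.mk_surjective (v y)
    exact ⟨z, (congrArg u hz).trans (DFunLike.congr_fun hvu y)⟩
  · rw [← Ideal.Quotient.eq_zero_iff_mem]
    refine ⟨fun h => ?_, fun h => ?_⟩
    · exact (DFunLike.congr_fun huv (Ideal.Quotient.mk (Ideal.span {f}) z)).symm.trans
        ((congrArg v (show u (Ideal.Quotient.mk _ z) = 0 from h)).trans (map_zero v))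
    · show u (Ideal.Quotient.mk _ z) = 0
      rw [h, map_zero]

set_option maxHeartbeats 4000000 in
set_option synthInstance.maxHeartbeats 200000 in
/-- The open and closed subgroup. -/
theorem exists_clopen {R : Type u} [CommRing R] [IsNoetherianRing R] [HenselianLocalRing R]
    {C : Type u} [CommRing C] [HopfAlgebra R C] [Algebra.FiniteType R C]
    (hlev : ∀ k : ℕ, Module.Flat (R ⧸ maximalIdeal R ^ (k + 1)) ((R ⧸ maximalIdeal R ^ (k + 1)) ⊗[R] C))
    (hs : SGA3b.IsMultType (ResidueField R) (ResidueField R ⊗[R] C)) :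
    ∃ (e : C) (B : Type u) (_ : CommRing B) (_ : HopfAlgebra R B) (φ : C →ₐc[R] B),
      IsIdempotentElem e ∧ e ∈ (maximalIdeal R).map (algebraMap R C) ∧ Function.Surjective φ ∧
        (∀ x, φ x = 0 ↔ x ∈ Ideal.span {e}) ∧ SGA3b.IsIsotrivial R B := by
  classical
  obtain ⟨B, _, _, hB, hBft, ⟨eB⟩⟩ := exists_isotrivial_closedFibre hs
  have hBM : SGA3b.IsMultType R B := by
    obtain ⟨E, _, _, -, -, hff, hd⟩ := id hB
    exact isMultType_of_ff E hd
  -- the completion
  let T := AdicCompletion (maximalIdeal R) R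
  have hfg : (maximalIdeal R).FG := IsNoetherian.noetherian _
  have := AdicCompletion.isLocalRing_of_fg hfg
  have : IsNoetherianRing T := LocalCrit.isNoetherianRing_completion (A := R) (C := R)
    (by rw [Algebra.algebraMap_self, Ideal.map_id])
  have hm : maximalIdeal T = (maximalIdeal R).map (algebraMap R T) := AdicCompletion.maximalIdeal_eq_map
  have : Module.Flat R T := inferInstance
  have : Module.FaithfullyFlat R T := Module.FaithfullyFlat.of_flat_of_isLocalHom
  have : HenselianLocalRing T := Groth.Agent.BrnchLib.henselianLocalRing_completion R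
  have hres : Function.Surjective ((residue T).comp (algebraMap R T)) := by
    intro y
    obtain ⟨x, rfl⟩ := residue_surjective y
    obtain ⟨a, ha⟩ := Ideal.Quotient.mk_surjective (AdicCompletion.evalOneₐ (maximalIdeal R) x)
    refine ⟨a, Ideal.Quotient.eq.mpr ?_⟩
    rw [hm, ← AdicCompletion.ker_evalOneₐ_eq_map _ hfg, RingHom.mem_ker, map_sub, sub_eq_zero]
    refine Eq.trans ?_ ha
    exact AlgHom.commutes (AdicCompletion.evalOneₐ (maximalIdeal R)) a
  have hlevT : ∀ k : ℕ, Module.Flat (T ⧸ maximalIdeal T ^ (k + 1)) ((T ⧸ maximalIdeal T ^ (k + 1)) ⊗[T] (T ⊗[R] C)) := by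
    intro k
    let S₀ := R ⧸ maximalIdeal R ^ (k + 1)
    let Q := T ⧸ maximalIdeal T ^ (k + 1)
    let f : S₀ →ₐ[R] Q := Ideal.Quotient.liftₐ _ (Algebra.ofId R Q) fun r hr => by
      rw [Algebra.ofId_apply, IsScalarTower.algebraMap_apply R T Q]
      refine Ideal.Quotient.eq_zero_iff_mem.mpr ?_
      rw [hm, ← Ideal.map_pow]
      exact Ideal.mem_map_of_mem _ hr
    let _ : Algebra S₀ Q := f.toRingHom.toAlgebra
    have : IsScalarTower R S₀ Q := IsScalarTower.of_algebraMap_eq fun r => (f.commutes r).symm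
    have := hlev k
    have : Module.Flat Q (Q ⊗[R] C) :=
      Module.Flat.of_linearEquiv (AlgebraTensorModule.cancelBaseChange R S₀ Q Q C).symm
    exact Module.Flat.of_linearEquiv (AlgebraTensorModule.cancelBaseChange R T Q Q C)
  let k := R ⧸ maximalIdeal R
  let kT := T ⧸ maximalIdeal T
  let ρ : k →ₐ[R] kT := Ideal.Quotient.liftₐ _ (Algebra.ofId R kT) fun r hr => by
    rw [Algebra.ofId_apply, IsScalarTower.algebraMap_apply R T kT]
    exact Ideal.Quotient.eq_zero_iff_mem.mpr (hm ▸ Ideal.mem_map_of_mem _ hr)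
  let _ : Algebra k kT := ρ.toRingHom.toAlgebra
  have : IsScalarTower R k kT := IsScalarTower.of_algebraMap_eq fun r => (ρ.commutes r).symm
  let _ : Algebra (ResidueField R) (ResidueField T) := ρ.toRingHom.toAlgebra
  have : IsScalarTower R (ResidueField R) (ResidueField T) :=
    IsScalarTower.of_algebraMap_eq fun r => (ρ.commutes r).symm
  have h0 : SGA3b.IsIsotrivial (T ⧸ maximalIdeal T) ((T ⧸ maximalIdeal T) ⊗[T] (T ⊗[R] C)) :=
    isIsotrivial_of_field_ext (ResidueField T) (ResidueField T) (ResidueField T ⊗[T] (T ⊗[R] C)) inferInstance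
      (isMultType_baseChange (ResidueField T) (isMultType_congr (baseChangeTrans (R := R) T (ResidueField T) C)
        (isMultType_fibre_ext (ResidueField R) (ResidueField T) hs)))
  let BT := T ⊗[R] B
  have hBT : SGA3b.IsIsotrivial T BT := by
    obtain ⟨E, _, _, het, hfin, hff, hd⟩ := id hB
    let _ : Algebra E (T ⊗[R] E) := Algebra.TensorProduct.rightAlgebra
    have : IsScalarTower R E (T ⊗[R] E) := Algebra.TensorProduct.right_isScalarTower
    exact ⟨T ⊗[R] E, inferInstance, inferInstance, inferInstance, inferInstance, inferInstance,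
      isDiag_congr (baseChangeTrans (R := R) T (T ⊗[R] E) B) (isDiag_baseChange E (T ⊗[R] E) hd)⟩
  let β₀ : kT ⊗[T] BT ≃ₐc[kT] kT ⊗[T] (T ⊗[R] C) :=
    (baseChangeTrans (R := R) T kT B).symm.trans ((baseChangeTrans (R := R) k kT B).trans
      ((congrBase kT eB).trans ((baseChangeTrans (R := R) k kT C).symm.trans
        (baseChangeTrans (R := R) T kT C))))
  obtain ⟨eT, Φ, heT, heTm, hΦs, hΦker⟩ := exists_surj_complete (maximalIdeal T) hlevT h0 hBT β₀
  -- descend
  obtain ⟨φ, hφ⟩ := exists_bialgHom hres hBft hBM inferInstance hs Φ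
  have hΦ : ∀ z, Φ z = Algebra.TensorProduct.map (AlgHom.id R T) (φ : C →ₐ[R] B) z := by
    intro z
    induction z using TensorProduct.induction_on with
    | zero => simp
    | add x y hx hy => simp only [map_add, hx, hy]
    | tmul t c =>
      rw [show (t ⊗ₜ[R] c : T ⊗[R] C) = t • ((1 : T) ⊗ₜ c) by rw [TensorProduct.smul_tmul', smul_eq_mul, mul_one],
        map_smul, hφ, show t • ((1 : T) ⊗ₜ[R] φ c) = t ⊗ₜ[R] φ c by
          rw [TensorProduct.smul_tmul', smul_eq_mul, mul_one]]
      simp [Algebra.TensorProduct.map_tmul, TensorProduct.smul_tmul']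
  have hφs : Function.Surjective φ := by
    suffices LinearMap.range (φ : C →ₐ[R] B).toLinearMap = ⊤ from fun b => LinearMap.range_eq_top.mp this b
    let L := LinearMap.range (φ : C →ₐ[R] B).toLinearMap
    refine Submodule.eq_top_iff'.mpr fun b => (Submodule.Quotient.mk_eq_zero L).mp ?_
    apply Module.FaithfullyFlat.tensorProduct_mk_injective (A := R) (B := T) (B ⧸ L)
    obtain ⟨z, hz⟩ := hΦs ((1 : T) ⊗ₜ b)
    have h1 : Algebra.TensorProduct.map (AlgHom.id R T) (φ : C →ₐ[R] B) z = (1 : T) ⊗ₜ b := by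
      rw [← hΦ]
      exact hz
    show (1 : T) ⊗ₜ[R] L.mkQ b = (1 : T) ⊗ₜ[R] (0 : B ⧸ L)
    rw [TensorProduct.tmul_zero, ← LinearMap.lTensor_tmul, ← h1]
    clear hz h1
    induction z using TensorProduct.induction_on with
    | zero => simp
    | add x y hx hy => simp only [map_add, hx, hy, add_zero]
    | tmul t c =>
      rw [Algebra.TensorProduct.map_tmul, LinearMap.lTensor_tmul,
        show L.mkQ ((φ : C →ₐ[R] B) c) = 0 from (Submodule.Quotient.mk_eq_zero L).mpr ⟨c, rfl⟩,
        TensorProduct.tmul_zero]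
  -- the kernel is generated by an idempotent
  let K : Ideal C := RingHom.ker (φ : C →ₐ[R] B)
  let ir : C →ₐ[R] T ⊗[R] C := Algebra.TensorProduct.includeRight
  have hK : K.map ir = Ideal.span {eT} := by
    ext z
    rw [← hΦker, hΦ, ← RingHom.mem_ker]
    exact Iff.of_eq (congrArg (z ∈ ·) (Algebra.TensorProduct.lTensor_ker (φ : C →ₐ[R] B) hφs).symm)
  have hdesc : ∀ (J : Ideal C) (x : C), ir x ∈ J.map ir → x ∈ J := fun J x hx => by
    have h1 := (ker_bc_quot T J (ir x)).mpr hx
    rw [Algebra.TensorProduct.includeRight_apply, Algebra.TensorProduct.map_tmul, map_one] at h1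
    refine Ideal.Quotient.eq_zero_iff_mem.mp
      (Module.FaithfullyFlat.tensorProduct_mk_injective (A := R) (B := T) (C ⧸ J) ?_)
    show (1 : T) ⊗ₜ[R] Ideal.Quotient.mk J x = (1 : T) ⊗ₜ[R] (0 : C ⧸ J)
    rw [TensorProduct.tmul_zero]
    exact h1
  have hKK : IsIdempotentElem K := by
    refine le_antisymm Ideal.mul_le_right ?_
    refine fun x hx => hdesc (K * K) x ?_
    rw [Ideal.map_mul]
    suffices K.map ir ≤ K.map ir * K.map ir from this (Ideal.mem_map_of_mem ir hx)
    rw [hK, Ideal.span_singleton_mul_span_singleton, heT.eq]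
  have : IsNoetherianRing C := Algebra.FiniteType.isNoetherianRing R C
  obtain ⟨e, he, hKe⟩ := (Ideal.isIdempotentElem_iff_of_fg K (IsNoetherian.noetherian K)).mp hKK
  have hem : e ∈ (maximalIdeal R).map (algebraMap R C) := by
    refine hdesc _ e ?_
    show ir e ∈ ((maximalIdeal R).map (algebraMap R C)).map ir
    have h1 : ir e ∈ Ideal.span {eT} := hK ▸ Ideal.mem_map_of_mem ir (hKe ▸ Submodule.mem_span_singleton_self e)
    obtain ⟨w, hw⟩ := Ideal.mem_span_singleton.mp h1
    rw [hw]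
    refine Ideal.mul_mem_right _ _ ?_
    show eT ∈ ((maximalIdeal R).map (algebraMap R C)).map (ir : C →+* T ⊗[R] C)
    rw [Ideal.map_map]
    rw [show (ir : C →+* T ⊗[R] C).comp (algebraMap R C) = (algebraMap T (T ⊗[R] C)).comp (algebraMap R T) from
      RingHom.ext fun r => by
        show ir (algebraMap R C r) = _
        rw [AlgHom.commutes, IsScalarTower.algebraMap_apply R T]; rfl, ← Ideal.map_map, ← hm]
    exact heTm
  exact ⟨e, B, inferInstance, inferInstance, φ, he, hem, hφs,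
    fun x => (RingHom.mem_ker (f := (φ : C →ₐ[R] B))).symm.trans (Iff.of_eq (congrArg (x ∈ ·) hKe)), hB⟩

end Groth.Agent.HenselHom
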