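import Groth.Agent.MultTypeLib.Rigid
import Groth.Agent.MultTypeLib.MultNil
import Mathlib.LinearAlgebra.TensorProduct.Basis
import Mathlib.RingTheory.TensorProduct.Free
import Mathlib.RingTheory.Adjoin.FG

/-!
# Descending bialgebra maps into a finite free group to the ring of their coefficients
-/

universe u

open TensorProduct Coalgebra Bialgebra
open Groth.Agent.MultTypeLib (SemiBialgHom mA pushHom)

noncomputable section

namespace Groth.Agent.HenselHom

variable {A : Type u} [CommRing A]

theorem repr_mA {Q : Type u} [CommRing Q] [HopfAlgebra A Q] {ι : Type*} (b : Module.Basis ι A Q)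
    {S T : Type u} [CommRing S] [Algebra A S] [CommRing T] [Algebra A T] (f : S →ₐ[A] T) (z : S ⊗[A] Q) (i : ι) :
    (b.baseChange T).repr (mA Q f z) i = f ((b.baseChange S).repr z i) := by
  induction z using TensorProduct.induction_on with
  | zero => simp
  | add x y hx hy => simp only [map_add, Finsupp.add_apply, hx, hy]
  | tmul s q =>
    rw [Algebra.TensorProduct.map_tmul, AlgHom.id_apply, Module.Basis.baseChange_repr_tmul,
      Module.Basis.baseChange_repr_tmul, map_smul]

theorem mA_injective {Q : Type u} [CommRing Q] [HopfAlgebra A Q] [Module.Free A Q]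
    {S T : Type u} [CommRing S] [Algebra A S] [CommRing T] [Algebra A T] (f : S →ₐ[A] T) (hf : Function.Injective f) :
    Function.Injective (mA Q f) := fun x y h => by
  let b := Module.Free.chooseBasis A Q
  refine (b.baseChange S).repr.injective (Finsupp.ext fun i => hf ?_)
  rw [← repr_mA, ← repr_mA, h]

set_option maxHeartbeats 1000000 in
set_option synthInstance.maxHeartbeats 100000 in
/-- The coefficients of `c ↦ Φ (1 ⊗ c)` lie in a finitely generated subalgebra, over which `Φ` is defined. -/
theorem exists_model {C Q : Type u} [CommRing C] [HopfAlgebra A C] [CommRing Q] [HopfAlgebra A Q]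
    [Module.Free A Q] [Module.Finite A Q] (hC : Algebra.FiniteType A C)
    {A' : Type u} [CommRing A'] [Algebra A A'] (Φ : A' ⊗[A] C →ₐc[A'] A' ⊗[A] Q) :
    ∃ (E : Subalgebra A A') (Ψ : E ⊗[A] C →ₐc[E] E ⊗[A] Q), Algebra.FiniteType A E ∧
      (∀ c, mA Q E.val (Ψ (1 ⊗ₜ c)) = Φ (1 ⊗ₜ c)) ∧
      ∀ (T : Type u) [CommRing T] [Algebra A T] (f g : E →ₐ[A] T),
        (∀ c, mA Q f (Ψ (1 ⊗ₜ c)) = mA Q g (Ψ (1 ⊗ₜ c))) → f = g := by
  classical
  let b := Module.Free.chooseBasis A Q
  obtain ⟨s, hs⟩ := hC.out
  let co : C → _ → A' := fun c i => (b.baseChange A').repr (Φ (1 ⊗ₜ c)) i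
  let gen : Finset A' := (s ×ˢ (Finset.univ : Finset (Module.Free.ChooseBasisIndex A Q))).image fun p => co p.1 p.2
  let E : Subalgebra A A' := Algebra.adjoin A (gen : Set A')
  have hE : Algebra.FiniteType A E := (Subalgebra.fg_iff_finiteType E).mp (Subalgebra.fg_adjoin_finset gen)
  let ι : E ⊗[A] Q →ₐ[A] A' ⊗[A] Q := mA Q E.val
  have hι : Function.Injective ι := mA_injective E.val Subtype.val_injective
  let ΦA : C →ₐ[A] A' ⊗[A] Q :=
    ((Φ : A' ⊗[A] C →ₐ[A'] A' ⊗[A] Q).restrictScalars A).comp Algebra.TensorProduct.includeRight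
  have hrange : ∀ c, ΦA c ∈ ι.range := by
    have : ι.range.comap ΦA = ⊤ := by
      rw [eq_top_iff, ← hs, Algebra.adjoin_le_iff]
      intro c hc
      show ΦA c ∈ ι.range
      rw [← (b.baseChange A').sum_repr (ΦA c)]
      refine sum_mem fun i _ => ?_
      have hi : co c i ∈ E := Algebra.subset_adjoin (Finset.mem_coe.mpr (Finset.mem_image.mpr
        ⟨(c, i), Finset.mem_product.mpr ⟨hc, Finset.mem_univ i⟩, rfl⟩))
      refine ⟨(⟨co c i, hi⟩ : E) ⊗ₜ b i, ?_⟩
      show mA Q E.val (_ ⊗ₜ b i) = _
      rw [Algebra.TensorProduct.map_tmul, AlgHom.id_apply, Module.Basis.baseChange_apply,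
        TensorProduct.smul_tmul', smul_eq_mul, mul_one]
      rfl
    exact fun c => (this ▸ Algebra.mem_top : c ∈ ι.range.comap ΦA)
  let f : C →ₐ[A] E ⊗[A] Q := (AlgEquiv.ofInjective ι hι).symm.toAlgHom.comp (ΦA.codRestrict ι.range hrange)
  have hf : ∀ c, ι (f c) = ΦA c := fun c =>
    congrArg Subtype.val ((AlgEquiv.ofInjective ι hι).apply_symm_apply (ΦA.codRestrict ι.range hrange c))
  let ΦS : SemiBialgHom A A' C (A' ⊗[A] Q) := (SemiBialgHom.ofBialgHom Φ).comp (SemiBialgHom.baseChange A A' C)
  let m : SemiBialgHom E A' (E ⊗[A] Q) (A' ⊗[A] Q) := (SemiBialgHom.baseChange A A' Q).extendSemi (S := E)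
  have hm : ∀ z, m.toAlgHom z = ι z := fun z => by
    induction z using TensorProduct.induction_on with
    | zero => simp
    | add x y hx hy => simp only [map_add, hx, hy]
    | tmul e q =>
      rw [SemiBialgHom.extendSemi_tmul]
      simp only [ι, SemiBialgHom.baseChange, Algebra.smul_def, Algebra.TensorProduct.map_tmul, AlgHom.id_apply,
        IsScalarTower.algebraMap_apply E A' (A' ⊗[A] Q), Algebra.TensorProduct.algebraMap_apply,
        Algebra.TensorProduct.includeRight_apply, Algebra.TensorProduct.tmul_mul_tmul, Algebra.algebraMap_self,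
        RingHom.id_apply, mul_one, one_mul]
      rfl
  let bE := (b.baseChange E).tensorProduct (b.baseChange E)
  let bT := (b.baseChange A').tensorProduct (b.baseChange A')
  let D := Groth.Agent.MultTypeLib.sq A' m.toAlgHom
  have hrepr : ∀ w ij, bT.repr (D w) ij = algebraMap E A' (bE.repr w ij) := by
    intro w ij
    obtain ⟨i, j⟩ := ij
    induction w using TensorProduct.induction_on with
    | zero => simp
    | add x y hx hy => simp only [map_add, Finsupp.add_apply, hx, hy]
    | tmul x y =>
      simp only [D, bT, bE, Groth.Agent.MultTypeLib.sq_tmul, hm, Module.Basis.tensorProduct_repr_tmul_apply,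
        smul_eq_mul, map_mul, ι, repr_mA]
      rfl
  have hDinj : Function.Injective D := fun x y h => by
    refine bE.repr.injective (Finsupp.ext fun ij => Subtype.val_injective ?_)
    exact (hrepr x ij).symm.trans ((congrArg (fun w => bT.repr w ij) h).trans (hrepr y ij))
  have hDsq : ∀ w : C ⊗[A] C, D (Groth.Agent.MultTypeLib.sq E f w) = Groth.Agent.MultTypeLib.sq A' ΦA w := by
    intro w
    induction w using TensorProduct.induction_on with
    | zero => simp
    | add x y hx hy => simp only [map_add, hx, hy]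
    | tmul c c' =>
      simp only [D, Groth.Agent.MultTypeLib.sq_tmul, hm, hf]
  let h : SemiBialgHom A E C (E ⊗[A] Q) :=
    { toAlgHom := f
      counit_comp := fun c => Subtype.ext (by
        have e := m.counit_comp (f c)
        rw [hm, hf] at e
        exact e.symm.trans (ΦS.counit_comp c))
      comul_comp := fun c => hDinj (by
        have e := m.comul_comp (f c)
        rw [hm, hf] at e
        exact e.symm.trans ((ΦS.comul_comp c).trans (hDsq _).symm)) }
  have hΨ : ∀ c, h.extendBialg (1 ⊗ₜ c) = f c := fun c =>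
    (h.extendBialg_apply _).trans ((h.extend_tmul 1 c).trans (one_smul _ _))
  refine ⟨E, h.extendBialg, hE, fun c => by rw [hΨ]; exact hf c, fun T _ _ p q hpq => ?_⟩
  refine AlgHom.ext_of_adjoin_eq_top (s := Subtype.val ⁻¹' (gen : Set A')) ?_ ?_
  · exact Algebra.adjoin_adjoin_coe_preimage
  · rintro ⟨x, hx⟩ (hxg : x ∈ (gen : Set A'))
    obtain ⟨⟨c, i⟩, -, e⟩ := Finset.mem_image.mp (Finset.mem_coe.mp hxg)
    have e' : (⟨x, hx⟩ : E) = (b.baseChange E).repr (f c) i := Subtype.ext (by
      show x = E.val ((b.baseChange E).repr (f c) i)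
      rw [← repr_mA b E.val, ← e]
      show _ = (b.baseChange A').repr (ι (f c)) i
      rw [hf]
      rfl)
    rw [e', ← repr_mA b p, ← repr_mA b q, ← hΨ, hpq]

end Groth.Agent.HenselHom
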