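import Groth.Agent.HenselHom.Factor
import Groth.Agent.MultTypeLib.Henselian
import Groth.Agent.MultTypeLib.Sub
import Groth.Agent.MultTypeLib.HopfKer
import Groth.Agent.S2974

/-!
# Homomorphisms between groups of multiplicative type and completion

A homomorphism is determined by its restrictions to the torsion subgroups, each of which is defined over
the base; so the homomorphism is too.
-/

universe u

open TensorProduct IsLocalRing
open Groth.Agent.MultTypeLib (SemiBialgHom mA tpi evalAt Split prn)

noncomputable section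

namespace Groth.Agent.HenselHom

/-- An element of `A' ⊗ B` all of whose reductions to the torsion subgroups come from the base comes from the base. -/
theorem mem_of_torsion {A : Type u} [CommRing A] {B : Type u} [CommRing B] [HopfAlgebra A B]
    (P : Split A B) [Module.FaithfullyFlat A P.S] [∀ n, (SGA3b.torsionIdeal A B n).IsHopfIdeal A]
    [Group.FG P.M] {A' : Type u} [CommRing A'] [Algebra A A'] (z : A' ⊗[A] B)
    (h : ∀ n, 0 < n → ∃ b : B ⧸ SGA3b.torsionIdeal A B n, (1 : A') ⊗ₜ[A] b = tpi n A' z) :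
    ∃ b : B, (1 : A') ⊗ₜ[A] b = z := by
  classical
  let T := P.S ⊗[A] A'
  let j : P.S →ₐ[A] T := Algebra.TensorProduct.includeLeft
  let iR : A' →ₐ[A] T := Algebra.TensorProduct.includeRight
  let w := P.coordAt j (mA B iR z)
  obtain ⟨n, hn, hsep⟩ := Groth.Agent.MultTypeLib.exists_separating w.coeff.support
  obtain ⟨b, hb⟩ := h n hn
  let γ := (P.torHom n).toAlgHom b
  have hγ : MonoidAlgebra.mapDomainBialgHom T (prn n) w = evalAt (j : P.S →+* T) γ := by
    rw [← P.torCoordAt_tpi, ← Groth.Agent.MultTypeLib.mA_tpi, ← hb, Algebra.TensorProduct.map_tmul, map_one,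
      AlgHom.id_apply, P.torCoordAt_one_tmul]
  let y : MonoidAlgebra P.S P.M := ∑ m ∈ w.coeff.support, MonoidAlgebra.single m (γ.coeff (prn n m))
  have hy : evalAt (j : P.S →+* T) y = w := by
    refine MonoidAlgebra.coeff_injective (Finsupp.ext fun m => ?_)
    simp only [y, map_sum, Groth.Agent.MultTypeLib.evalAt_single, MonoidAlgebra.coeff_sum, Finsupp.finsetSum_apply,
      MonoidAlgebra.coeff_single, Finsupp.single_apply, Finset.sum_ite_eq']
    split_ifs with hm
    · have h1 := congrArg (fun v => v.coeff (prn n m)) hγ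
      simp only [Groth.Agent.MultTypeLib.coeff_evalAt] at h1
      rw [← h1, show MonoidAlgebra.mapDomainBialgHom T (prn n) w = MonoidAlgebra.mapDomain (prn n) w from rfl,
        MonoidAlgebra.coeff_mapDomain]
      exact (Finsupp.mapDomain_apply' (↑w.coeff.support) w.coeff subset_rfl
        (fun a ha b hb hab => hsep a ha b hb hab) hm)
    · exact (Finsupp.notMem_support_iff.mp hm).symm
  have hmA : mA B iR z = mA B j (P.equiv.symm y) := by
    apply (P.coordAt_bijective j).1
    show w = _
    rw [← hy]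
    have h1 := P.coordAt_mA j (P.equiv.symm y)
    rw [P.equiv.apply_symm_apply] at h1
    exact h1.symm
  -- descent along the splitting
  let L : Submodule A (A' ⊗[A] B) := LinearMap.range (TensorProduct.mk A A' B 1)
  suffices z ∈ L from this
  let f : P.S ⊗[A] (A' ⊗[A] B) ≃ₗ[A] T ⊗[A] B := (TensorProduct.assoc A P.S A' B).symm
  have hf1 : ∀ z' : A' ⊗[A] B, f ((1 : P.S) ⊗ₜ z') = mA B iR z' := by
    intro z'
    induction z' using TensorProduct.induction_on with
    | zero => simp
    | add x y hx hy => simp only [TensorProduct.tmul_add, map_add, hx, hy]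
    | tmul a b => rfl
  have hf2 : ∀ v : P.S ⊗[A] B, f (LinearMap.lTensor P.S (TensorProduct.mk A A' B 1) v) = mA B j v := by
    intro v
    induction v using TensorProduct.induction_on with
    | zero => simp
    | add x y hx hy => simp only [map_add, hx, hy]
    | tmul a b => rfl
  have h1 : (1 : P.S) ⊗ₜ[A] z = LinearMap.lTensor P.S (TensorProduct.mk A A' B 1) (P.equiv.symm y) :=
    f.injective (by rw [hf1, hf2, hmA])
  rw [← Submodule.Quotient.mk_eq_zero L]
  apply Module.FaithfullyFlat.tensorProduct_mk_injective (A := A) (B := P.S) ((A' ⊗[A] B) ⧸ L)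
  show (1 : P.S) ⊗ₜ[A] (L.mkQ z) = (1 : P.S) ⊗ₜ[A] (0 : (A' ⊗[A] B) ⧸ L)
  rw [TensorProduct.tmul_zero, ← LinearMap.lTensor_tmul, h1, ← LinearMap.comp_apply, ← LinearMap.lTensor_comp,
    show L.mkQ ∘ₗ TensorProduct.mk A A' B 1 = 0 from LinearMap.range_le_ker_iff.mp L.ker_mkQ.ge,
    LinearMap.lTensor_zero, LinearMap.zero_apply]

variable {A : Type u} [CommRing A] [IsNoetherianRing A] [HenselianLocalRing A]
    {A' : Type u} [CommRing A'] [Algebra A A'] [HenselianLocalRing A'] [IsLocalHom (algebraMap A A')]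
    [Module.FaithfullyFlat A A']
    {B C : Type u} [CommRing B] [HopfAlgebra A B] [CommRing C] [HopfAlgebra A C]

omit [IsNoetherianRing A] [HenselianLocalRing A] [HenselianLocalRing A'] [IsLocalHom (algebraMap A A')] in
theorem mk_injective : Function.Injective (TensorProduct.mk A A' B 1) :=
  Module.FaithfullyFlat.tensorProduct_mk_injective (A := A) (B := A') B

set_option maxHeartbeats 1000000 in
/-- The homomorphism is defined over the base. -/
theorem exists_bialgHom (hres : Function.Surjective ((residue A').comp (algebraMap A A')))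
    (hBft : Algebra.FiniteType A B) (hB : SGA3b.IsMultType A B) (hCft : Algebra.FiniteType A C)
    (hs : SGA3b.IsMultType (ResidueField A) (ResidueField A ⊗[A] C))
    (Φ : A' ⊗[A] C →ₐc[A'] A' ⊗[A] B) :
    ∃ φ : C →ₐc[A] B, ∀ c, Φ (1 ⊗ₜ c) = 1 ⊗ₜ φ c := by
  classical
  have : ∀ n, (SGA3b.torsionIdeal A B n).IsHopfIdeal A := Groth.Agent.MultTypeLib.isHopfIdeal_torsionIdeal hB
  obtain ⟨E, _, _, -, -, hff, hd⟩ := Groth.Agent.S2974.result A B hBft hB
  obtain ⟨M, _, hom, equiv, he⟩ := Groth.Agent.MultTypeLib.exists_split_of_isDiag E hd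
  let P : Split A B := { S := E, M := M, hom := hom, equiv := equiv, equiv_tmul := he }
  have : Module.FaithfullyFlat A P.S := hff
  have : Nontrivial P.S := by
    obtain ⟨⟨q, hq⟩, -⟩ := PrimeSpectrum.comap_surjective_of_faithfullyFlat (A := A) (B := P.S)
      (IsLocalRing.closedPoint A)
    exact ⟨⟨0, 1, fun h => hq.ne_top (q.eq_top_iff_one.mpr (h ▸ q.zero_mem))⟩⟩
  have : Group.FG P.M := by
    have : Algebra.FiniteType P.S (MonoidAlgebra P.S P.M) := Algebra.FiniteType.equiv inferInstance P.equiv
    exact Group.fg_iff_monoid_fg.mpr (MonoidAlgebra.finiteType_iff_fg.mp this)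
  have hmem : ∀ c, ∃ b : B, (1 : A') ⊗ₜ[A] b = Φ (1 ⊗ₜ c) := fun c => mem_of_torsion P _ fun n hn => by
    obtain ⟨hm, hfin⟩ := Groth.Agent.S5242.result A B hBft hB n hn (SGA3b.torsionIdeal A B n) rfl
    obtain ⟨P', hP'⟩ := Groth.Agent.MultTypeLib.exists_ff_split hm
    have := P'.flat_self
    have : Module.Free A (B ⧸ SGA3b.torsionIdeal A B n) := Module.free_of_flat_of_isLocalRing
    let π : A' ⊗[A] B →ₐc[A'] A' ⊗[A] (B ⧸ SGA3b.torsionIdeal A B n) :=
      Bialgebra.TensorProduct.map (BialgHom.id _ _) (Bialgebra.Quotient.mkBialgHom (SGA3b.torsionIdeal A B n))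
    have hπ : ∀ z, π z = tpi n A' z := by
      intro z
      induction z using TensorProduct.induction_on with
      | zero => simp
      | add x y hx hy => simp only [map_add, hx, hy]
      | tmul s a => rfl
    obtain ⟨q, hq⟩ := exists_of_finite hres hCft hm hs (π.comp Φ) c
    exact ⟨q, hq.trans (hπ _)⟩
  choose φ hφ using hmem
  let ι := TensorProduct.mk A A' B 1
  have hι : Function.Injective ι := mk_injective
  have hlin : ∀ (c d : C), φ (c + d) = φ c + φ d := fun c d => hι (by
    show (1 : A') ⊗ₜ[A] φ (c + d) = (1 : A') ⊗ₜ[A] (φ c + φ d)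
    rw [TensorProduct.tmul_add, hφ, hφ, hφ, TensorProduct.tmul_add, map_add])
  have hmul : ∀ (c d : C), φ (c * d) = φ c * φ d := fun c d => hι (by
    show (1 : A') ⊗ₜ[A] φ (c * d) = (1 : A') ⊗ₜ[A] (φ c * φ d)
    rw [show (1 : A') ⊗ₜ[A] (φ c * φ d) = ((1 : A') ⊗ₜ φ c) * ((1 : A') ⊗ₜ φ d) by simp, hφ, hφ, hφ, ← map_mul,
      Algebra.TensorProduct.tmul_mul_tmul, one_mul])
  have halg : ∀ a : A, φ (algebraMap A C a) = algebraMap A B a := fun a => hι (by
    show (1 : A') ⊗ₜ[A] φ (algebraMap A C a) = (1 : A') ⊗ₜ[A] algebraMap A B a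
    rw [hφ, Algebra.algebraMap_eq_smul_one, Algebra.algebraMap_eq_smul_one, TensorProduct.tmul_smul,
      TensorProduct.tmul_smul, ← IsScalarTower.algebraMap_smul A' a, ← IsScalarTower.algebraMap_smul A' a, map_smul,
      ← Algebra.TensorProduct.one_def, ← Algebra.TensorProduct.one_def, map_one])
  let f : C →ₐ[A] B :=
    { toFun := φ
      map_one' := by simpa using halg 1
      map_mul' := hmul
      map_zero' := by simpa using halg 0
      map_add' := hlin
      commutes' := halg }
  let S1 : SemiBialgHom A A' C (A' ⊗[A] B) := (SemiBialgHom.ofBialgHom Φ).comp (SemiBialgHom.baseChange A A' C)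
  let S0 := SemiBialgHom.baseChange A A' B
  have hcu : ∀ c, Coalgebra.counit (R := A) (f c) = Coalgebra.counit (R := A) c := fun c => by
    apply FaithfulSMul.algebraMap_injective A A'
    exact (S0.counit_comp (f c)).symm.trans ((congrArg _ (hφ c)).trans (S1.counit_comp c))
  let δ : B ⊗[A] B →ₗ[A] (A' ⊗[A] B) ⊗[A'] (A' ⊗[A] B) :=
    ((TensorProduct.AlgebraTensorModule.distribBaseChange A A' B B).toLinearMap.restrictScalars A) ∘ₗ
      TensorProduct.mk A A' (B ⊗[A] B) 1
  have hδ : Function.Injective δ :=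
    (TensorProduct.AlgebraTensorModule.distribBaseChange A A' B B).injective.comp
      (Module.FaithfullyFlat.tensorProduct_mk_injective (A := A) (B := A') (B ⊗[A] B))
  have hδsq : ∀ w, δ w = Groth.Agent.MultTypeLib.sq A' S0.toAlgHom w := by
    intro w
    induction w using TensorProduct.induction_on with
    | zero => simp
    | add x y hx hy => simp only [map_add, hx, hy]
    | tmul x y => simp [δ, S0, SemiBialgHom.baseChange]
  have hco : ∀ c, Coalgebra.comul (R := A) (f c) = TensorProduct.map f.toLinearMap f.toLinearMap (Coalgebra.comul c) := by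
    intro c
    apply hδ
    rw [hδsq, hδsq, ← S0.comul_comp, show S0.toAlgHom (f c) = S1.toAlgHom c from hφ c, S1.comul_comp]
    generalize Coalgebra.comul (R := A) c = w
    induction w using TensorProduct.induction_on with
    | zero => simp
    | add x y hx hy => simp only [map_add, hx, hy]
    | tmul x y =>
      rw [TensorProduct.map_tmul, Groth.Agent.MultTypeLib.sq_tmul, Groth.Agent.MultTypeLib.sq_tmul]
      exact (congrArg₂ (· ⊗ₜ[A'] ·) (hφ x) (hφ y)).symm
  refine ⟨BialgHom.ofAlgHom f ?_ ?_, fun c => (hφ c).symm⟩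
  · exact AlgHom.ext hcu
  · exact AlgHom.ext fun c => (hco c).symm

end Groth.Agent.HenselHom
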