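import Groth.Agent.HenselHom.Coeff
import Groth.Agent.MultTypeLib.LocalCriteria
import Groth.Agent.Hensel.Pair
import Mathlib.RingTheory.Unramified.LocalStructure
import Mathlib.RingTheory.Unramified.LocalRing
import Mathlib.RingTheory.Etale.StandardEtale

/-!
# Homomorphisms of a finite group of multiplicative type over a henselian local ring

The ring of coefficients of such a homomorphism is unramified at the given point, as homomorphisms between
groups of multiplicative type over a field are rigid; so the homomorphism is defined over the base.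
-/

universe u

open TensorProduct IsLocalRing
open Groth.Agent.MultTypeLib (mA pushHom bialgHom_ext_nil isMultType_baseChange baseChangeTrans)

noncomputable section

namespace Groth.Agent.HenselHom

theorem push_eq {A : Type u} [CommRing A] {S T : Type u} [CommRing S] [Algebra A S] [CommRing T] [Algebra A T]
    {C Q : Type u} [CommRing C] [HopfAlgebra A C] [CommRing Q] [HopfAlgebra A Q] {I : Ideal T} (hI : IsNilpotent I)
    (hCT : SGA3b.IsMultType T (T ⊗[A] C)) (hQ : SGA3b.IsMultType A Q) (f g : S →ₐ[A] T)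
    (hfg : ∀ e, f e - g e ∈ I) (Ψ : S ⊗[A] C →ₐc[S] S ⊗[A] Q) (c : C) :
    mA Q f (Ψ (1 ⊗ₜ c)) = mA Q g (Ψ (1 ⊗ₜ c)) := by
  have hz : ∀ z : S ⊗[A] Q, mA Q f z - mA Q g z ∈ (I • ⊤ : Submodule T (T ⊗[A] Q)) := by
    intro z
    induction z using TensorProduct.induction_on with
    | zero => simp
    | add x y hx hy => simp only [map_add]; rw [add_sub_add_comm]; exact add_mem hx hy
    | tmul e q =>
      rw [Algebra.TensorProduct.map_tmul, Algebra.TensorProduct.map_tmul, AlgHom.id_apply,
        ← TensorProduct.sub_tmul,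
        show ((f e - g e) ⊗ₜ[A] q : T ⊗[A] Q) = (f e - g e) • ((1 : T) ⊗ₜ q) by
          rw [TensorProduct.smul_tmul', smul_eq_mul, mul_one]]
      exact Submodule.smul_mem_smul (hfg e) Submodule.mem_top
  have h := bialgHom_ext_nil hI hCT (isMultType_baseChange T hQ) (pushHom f Ψ) (pushHom g Ψ) fun z => by
    induction z using TensorProduct.induction_on with
    | zero => simp
    | add x y hx hy => simp only [map_add]; rw [add_sub_add_comm]; exact add_mem hx hy
    | tmul t d =>
      rw [Groth.Agent.MultTypeLib.pushHom_tmul, Groth.Agent.MultTypeLib.pushHom_tmul, ← smul_sub]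
      exact Submodule.smul_mem _ _ (hz _)
  have h1 := congrArg (fun φ : T ⊗[A] C →ₐc[T] T ⊗[A] Q => φ (1 ⊗ₜ c)) h
  simpa [Groth.Agent.MultTypeLib.pushHom_one_tmul] using h1

/-- A rational point without infinitesimal deformations is an unramified point. -/
theorem isUnramifiedAt_of_le {A : Type u} [CommRing A] [IsLocalRing A] {E : Type u} [CommRing E] [Algebra A E]
    [IsNoetherianRing E] [Algebra.FiniteType A E] (pt : E →ₐ[A] ResidueField A) [(RingHom.ker pt).IsPrime]
    (h : RingHom.ker pt ≤ (maximalIdeal A).map (algebraMap A E) ⊔ RingHom.ker pt ^ 2) :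
    Algebra.IsUnramifiedAt A (RingHom.ker pt) := by
  let p := RingHom.ker pt
  have hmp : (maximalIdeal A).map (algebraMap A E) ≤ p := Ideal.map_le_iff_le_comap.mpr fun a ha => by
    rw [Ideal.mem_comap, RingHom.mem_ker, pt.commutes]
    exact (residue_eq_zero_iff a).mpr ha
  let Ep := Localization.AtPrime p
  have hmapEp : (maximalIdeal A).map (algebraMap A Ep) = maximalIdeal Ep := by
    rw [IsScalarTower.algebraMap_eq A E Ep, ← Ideal.map_map]
    refine le_antisymm ((Ideal.map_mono hmp).trans (Localization.AtPrime.map_eq_maximalIdeal).le) ?_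
    refine Submodule.le_of_le_smul_of_le_jacobson_bot (IsNoetherian.noetherian _)
      (maximalIdeal_le_jacobson (R := Ep) ⊥) ?_
    conv_lhs => rw [← Localization.AtPrime.map_eq_maximalIdeal]
    refine (Ideal.map_mono h).trans ?_
    rw [Ideal.map_sup, Ideal.map_pow, Localization.AtPrime.map_eq_maximalIdeal, smul_eq_mul, sq]
  have : p.LiesOver (maximalIdeal A) := ⟨by
    ext a
    rw [Ideal.mem_comap, RingHom.mem_ker, pt.commutes, ResidueField.algebraMap_eq, residue_eq_zero_iff]⟩
  let _ := Localization.AtPrime.algebraOfLiesOver (maximalIdeal A) p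
  refine (Algebra.isUnramifiedAt_iff_map_eq A (maximalIdeal A) p).mpr ⟨?_, hmapEp⟩
  have hsurj : Function.Surjective (algebraMap (maximalIdeal A).ResidueField p.ResidueField) := fun y => by
    have : p.IsMaximal := RingHom.ker_isMaximal_of_surjective pt fun z => by
      obtain ⟨a, rfl⟩ := residue_surjective z
      exact ⟨algebraMap A E a, pt.commutes a⟩
    obtain ⟨e, rfl⟩ := p.algebraMap_residueField_surjective y
    obtain ⟨a, ha⟩ := residue_surjective (pt e)
    refine ⟨algebraMap A _ a, ?_⟩
    rw [← IsScalarTower.algebraMap_apply,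
      IsScalarTower.algebraMap_apply A E p.ResidueField, ← sub_eq_zero, ← map_sub,
      Ideal.algebraMap_residueField_eq_zero, RingHom.mem_ker, map_sub, pt.commutes, ResidueField.algebraMap_eq,
      ha, sub_self]
  have : Module.Finite (maximalIdeal A).ResidueField p.ResidueField :=
    Module.Finite.of_surjective (Algebra.linearMap _ _) hsurj
  refine ⟨fun y => ?_⟩
  obtain ⟨x, rfl⟩ := hsurj y
  exact isSeparable_algebraMap x

set_option maxHeartbeats 1000000 in
theorem exists_of_finite {A : Type u} [CommRing A] [IsNoetherianRing A] [HenselianLocalRing A]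
    {A' : Type u} [CommRing A'] [Algebra A A'] [HenselianLocalRing A'] [IsLocalHom (algebraMap A A')]
    (hres : Function.Surjective ((residue A').comp (algebraMap A A')))
    {C Q : Type u} [CommRing C] [HopfAlgebra A C] [CommRing Q] [HopfAlgebra A Q]
    [Module.Free A Q] [Module.Finite A Q] (hC : Algebra.FiniteType A C)
    (hQ : SGA3b.IsMultType A Q)
    (hs : SGA3b.IsMultType (ResidueField A) (ResidueField A ⊗[A] C))
    (Φ : A' ⊗[A] C →ₐc[A'] A' ⊗[A] Q) (c : C) :
    ∃ q : Q, (1 : A') ⊗ₜ[A] q = Φ (1 ⊗ₜ c) := by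
  classical
  obtain ⟨E, Ψ, hE, hΨ, hext⟩ := exists_model hC Φ
  have : IsNoetherianRing E := Algebra.FiniteType.isNoetherianRing A E
  -- the point of the closed fibre
  let ρ : ResidueField A →ₐ[A] ResidueField A' := Ideal.Quotient.liftₐ (maximalIdeal A) (Algebra.ofId A _) fun r hr => by
    rw [Algebra.ofId_apply, IsScalarTower.algebraMap_apply A A' (ResidueField A'), ResidueField.algebraMap_eq,
      residue_eq_zero_iff]
    exact map_nonunit (algebraMap A A') r hr
  have hρ : ∀ a : A, ρ (residue A a) = residue A' (algebraMap A A' a) := fun a => rfl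
  have hρb : Function.Bijective ρ := ⟨ρ.toRingHom.injective, fun y => by
    obtain ⟨a, ha⟩ := hres y
    exact ⟨residue A a, (hρ a).trans ha⟩⟩
  let pt : E →ₐ[A] ResidueField A :=
    (AlgEquiv.ofBijective ρ hρb).symm.toAlgHom.comp ((IsScalarTower.toAlgHom A A' (ResidueField A')).comp E.val)
  have hpt : ∀ e : E, ρ (pt e) = residue A' e := fun e =>
    (AlgEquiv.ofBijective ρ hρb).apply_symm_apply (residue A' (e : A'))
  let p : Ideal E := RingHom.ker pt
  have hpts : Function.Surjective pt := fun y => by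
    obtain ⟨a, rfl⟩ := residue_surjective y
    exact ⟨algebraMap A E a, pt.commutes a⟩
  have hpmax : p.IsMaximal := RingHom.ker_isMaximal_of_surjective pt hpts
  have hpmem : ∀ e : E, e ∈ p ↔ (e : A') ∈ maximalIdeal A' := fun e => by
    rw [RingHom.mem_ker, ← residue_eq_zero_iff, ← hpt, map_eq_zero_iff ρ hρb.1]
  let mE : Ideal E := (maximalIdeal A).map (algebraMap A E)
  have hmp : mE ≤ p := Ideal.map_le_iff_le_comap.mpr fun a ha => by
    rw [Ideal.mem_comap, RingHom.mem_ker, pt.commutes]
    exact (residue_eq_zero_iff a).mpr ha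
  -- rigidity
  let J : Ideal E := mE ⊔ p ^ 2
  let π : E →ₐ[A] E ⧸ J := Ideal.Quotient.mkₐ A J
  let k2T : ResidueField A →ₐ[A] E ⧸ J := Ideal.Quotient.liftₐ (maximalIdeal A) (Algebra.ofId A _) fun r hr => by
    rw [Algebra.ofId_apply, IsScalarTower.algebraMap_apply A E (E ⧸ J)]
    exact Ideal.Quotient.eq_zero_iff_mem.mpr (Ideal.mem_sup_left (Ideal.mem_map_of_mem _ hr))
  let π₀ : E →ₐ[A] E ⧸ J := k2T.comp pt
  let I : Ideal (E ⧸ J) := p.map π
  have hI : IsNilpotent I := ⟨2, by
    rw [← Ideal.map_pow, Ideal.zero_eq_bot, Ideal.map_eq_bot_iff_le_ker]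
    intro x hx
    exact (RingHom.mem_ker).mpr (Ideal.Quotient.eq_zero_iff_mem.mpr (Ideal.mem_sup_right hx))⟩
  have hdiff : ∀ e : E, π e - π₀ e ∈ I := fun e => by
    obtain ⟨a, ha⟩ := residue_surjective (pt e)
    have h0 : π₀ e = π (algebraMap A E a) := by
      show k2T (pt e) = _
      rw [← ha, π.commutes]
      exact k2T.commutes a
    rw [h0, ← map_sub]
    refine Ideal.mem_map_of_mem π ?_
    rw [RingHom.mem_ker, map_sub, pt.commutes, ← ha, ResidueField.algebraMap_eq, sub_self]
  let _ : Algebra (ResidueField A) (E ⧸ J) := k2T.toRingHom.toAlgebra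
  have : IsScalarTower A (ResidueField A) (E ⧸ J) := IsScalarTower.of_algebraMap_eq fun r => (k2T.commutes r).symm
  have hCT : SGA3b.IsMultType (E ⧸ J) ((E ⧸ J) ⊗[A] C) :=
    Groth.Agent.MultTypeLib.isMultType_congr (baseChangeTrans (R := A) (ResidueField A) (E ⧸ J) C).symm
      (isMultType_baseChange (E ⧸ J) hs)
  have heq : π = π₀ := by
    exact hext _ π π₀ fun c => push_eq hI hCT hQ π π₀ hdiff Ψ c
  have hpJ : p ≤ J := fun e he => by
    have h1 : π e = π₀ e := DFunLike.congr_fun heq e
    have h2 : π₀ e = 0 := by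
      show k2T (pt e) = 0
      rw [RingHom.mem_ker.mp he, map_zero]
    exact Ideal.Quotient.eq_zero_iff_mem.mp (h1.trans h2)
  have hunr : Algebra.IsUnramifiedAt A p := isUnramifiedAt_of_le pt hpJ
  obtain ⟨g, hgp, ⟨P, θ, hθ⟩⟩ := Algebra.IsUnramifiedAt.exists_hasStandardEtaleSurjectionOn (R := A) p
  have hgu : IsUnit (E.val g) := by
    by_contra hc
    exact hgp ((hpmem g).mpr hc)
  let ext : Localization.Away g →ₐ[A] A' := IsLocalization.liftAlgHom (M := Submonoid.powers g) (f := E.val) fun y => by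
    obtain ⟨n, hn⟩ := y.2
    rw [← hn, map_pow]
    exact hgu.pow n
  obtain ⟨τ, hτ, -⟩ := Groth.Agent.Hensel.existsUnique_etale_lift (I := maximalIdeal A)
    ((AlgEquiv.ofBijective ρ hρb).symm.toAlgHom.comp
      ((IsScalarTower.toAlgHom A A' (ResidueField A')).comp (ext.comp θ)) : P.Ring →ₐ[A] A ⧸ maximalIdeal A)
  obtain ⟨τ', -, huniq⟩ := Groth.Agent.Hensel.existsUnique_etale_lift_of_algebra (maximalIdeal A') (R := A)
    ((IsScalarTower.toAlgHom A A' (ResidueField A')).comp (ext.comp θ) : P.Ring →ₐ[A] A' ⧸ maximalIdeal A')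
  have h1 : (Algebra.ofId A A').comp τ = τ' := huniq _ (AlgHom.ext fun x => by
    show residue A' (algebraMap A A' (τ x)) = _
    rw [← hρ]
    exact (congrArg ρ (DFunLike.congr_fun hτ x)).trans ((AlgEquiv.ofBijective ρ hρb).apply_symm_apply _))
  have h2 : ext.comp θ = τ' := huniq _ rfl
  have hEA : ∀ e : E, ∃ a, algebraMap A A' a = e := fun e => by
    obtain ⟨x, hx⟩ := hθ (algebraMap E _ e)
    refine ⟨τ x, ?_⟩
    have h3 : algebraMap A A' (τ x) = ext (θ x) := DFunLike.congr_fun (h1.trans h2.symm) x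
    rw [h3, hx]
    exact IsLocalization.lift_eq _ e
  rw [← hΨ]
  generalize Ψ (1 ⊗ₜ c) = z
  induction z using TensorProduct.induction_on with
  | zero => exact ⟨0, by simp⟩
  | add x y hx hy =>
    obtain ⟨a, ha⟩ := hx
    obtain ⟨b, hb⟩ := hy
    exact ⟨a + b, by rw [TensorProduct.tmul_add, ha, hb, map_add]⟩
  | tmul e q =>
    obtain ⟨a, ha⟩ := hEA e
    exact ⟨a • q, by
      rw [Algebra.TensorProduct.map_tmul, AlgHom.id_apply, ← TensorProduct.smul_tmul, ← Algebra.algebraMap_eq_smul_one,
        ha]; rfl⟩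

end Groth.Agent.HenselHom
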