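import Groth.Agent.RedRank.Family
import Groth.Agent.GrpSchLib.MultTypeBC

/-!
# Restricting a homomorphism given by a family along a point
-/

universe u

open CategoryTheory CategoryTheory.Limits MonoidalCategory CartesianMonoidalCategory MonObj AlgebraicGeometry

set_option backward.isDefEq.respectTransparency false
set_option backward.isDefEq.respectTransparency.types false
set_option synthInstance.maxHeartbeats 80000

noncomputable section

namespace Groth.Agent.HenselHom

open DSPtsLib GrpSchLib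

variable {S U U' : Scheme.{u}}

/-- Iterated base change of a group, compatibly with the projections. -/
theorem exists_bc_comp (t : U' ⟶ U) (g : U ⟶ S) {e : U' ⟶ S} (h : t ≫ g = e) (G : Over S) [GrpObj G] :
    ∃ k : Red.bc t (Red.bc g G) ≅ Red.bc e G, IsMonHom k.hom ∧
      k.hom.left ≫ pullback.fst G.hom e = pullback.fst (Red.bc g G).hom t ≫ pullback.fst G.hom g := by
  subst h
  let f : pullback (Red.bc g G).hom t ⟶ pullback G.hom (t ≫ g) :=
    pullback.lift (pullback.fst (Red.bc g G).hom t ≫ pullback.fst G.hom g) (pullback.snd _ t) (by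
      rw [Category.assoc, pullback.condition, ← Category.assoc, show pullback.fst (Red.bc g G).hom t ≫
        pullback.snd G.hom g = pullback.snd (Red.bc g G).hom t ≫ t from pullback.condition, Category.assoc])
  let f' : pullback G.hom (t ≫ g) ⟶ pullback (Red.bc g G).hom t :=
    pullback.lift (pullback.lift (pullback.fst G.hom (t ≫ g)) (pullback.snd _ _ ≫ t) (by
      rw [Category.assoc, pullback.condition])) (pullback.snd _ _) (pullback.lift_snd _ _ _)
  let k : Red.bc t (Red.bc g G) ≅ Red.bc (t ≫ g) G := Over.isoMk ⟨f, f', by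
    refine pullback.hom_ext (pullback.hom_ext ?_ ?_) ?_
    · simp [f, f']
    · simp only [f, f', Category.assoc, pullback.lift_fst, pullback.lift_snd, Category.id_comp]
      rw [← Category.assoc, pullback.lift_snd]
      exact (pullback.condition (f := (Red.bc g G).hom) (g := t)).symm
    · simp [f, f'], by
    refine pullback.hom_ext ?_ ?_ <;> simp [f, f']⟩ (pullback.lift_snd _ _ _)
  have hk : k.hom.left ≫ pullback.fst G.hom (t ≫ g) = pullback.fst (Red.bc g G).hom t ≫ pullback.fst G.hom g :=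
    pullback.lift_fst _ _ _
  refine ⟨k, AGFLib.isMonHom_of_mul _ fun Y a b => (theta_bijective (t ≫ g)).1 ?_, hk⟩
  let c : (Over.map (t ≫ g)).obj Y ⟶ (Over.map g).obj ((Over.map t).obj Y) := Over.homMk (𝟙 _) (by
    show 𝟙 _ ≫ (Y.hom ≫ t) ≫ g = Y.hom ≫ t ≫ g
    rw [Category.id_comp, Category.assoc])
  have key : ∀ z : Y ⟶ Red.bc t (Red.bc g G), theta (t ≫ g) (z ≫ k.hom) = c ≫ theta g (theta t z) := fun z => by
    refine Over.OverMorphism.ext ?_
    rw [theta_left, Over.comp_left, Over.comp_left, theta_left, theta_left, Category.assoc, hk]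
    show _ = 𝟙 _ ≫ _
    rw [Category.id_comp, Category.assoc]
  rw [key, theta_mul, theta_mul, theta_mul, key, key, MonObj.comp_mul]

variable {H G : Over S} [GrpObj H] [GrpObj G] {f : U ⟶ S} {K : Scheme.{u}} {b : K ⟶ S} (t : K ⟶ U) (ht : t ≫ f = b)
  (φ : H ⊗ Over.mk f ⟶ G) (u : Red.bc f H ⟶ Red.bc f G)
  (hu : ∀ (Z : Over U) (z : Z ⟶ Red.bc f H), theta f (z ≫ u) =
    lift (theta f z) ((Over.map f).map (toUnit Z)) ≫
      (H ◁ (Over.homMk (𝟙 U) : (Over.map f).obj (𝟙_ (Over U)) ⟶ Over.mk f)) ≫ φ)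
  (u₀ : Red.bc b H ⟶ Red.bc b G) (a₀ : (Over.map b).obj (𝟙_ (Over K)) ⟶ Over.mk f) (ha₀ : a₀.left = t)
  (hu₀ : ∀ (Z : Over K) (z : Z ⟶ Red.bc b H), theta b (z ≫ u₀) =
    lift (theta b z) ((Over.map b).map (toUnit Z)) ≫ (H ◁ a₀) ≫ φ)

include hu ha₀ hu₀ in
/-- Injectivity at a point whose restriction is a monomorphism. -/
theorem inj_of_restrict [IsMonHom u] [IsMonHom u₀] [Mono u₀] : HomMonoLocus.Inj u t := by
  subst ha₀
  exact RedRank.inj_of_classify (A := Over.mk f) φ u hu b u₀ a₀ hu₀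

include hu ha₀ hu₀ in
/-- The restriction of a homomorphism along a point. -/
theorem restrict_fst (ht' : pullback.fst H.hom b ≫ H.hom = (pullback.snd H.hom b ≫ t) ≫ f) :
    pullback.lift (pullback.fst H.hom b) (pullback.snd H.hom b ≫ t) ht' ≫ u.left ≫ pullback.fst G.hom f =
      u₀.left ≫ pullback.fst G.hom b := by
  subst ha₀
  let X : Over K := Red.bc b H
  let Z : Over U := Over.mk (pullback.snd H.hom b ≫ a₀.left)
  let z : Z ⟶ Red.bc f H := Over.homMk (pullback.lift (pullback.fst H.hom b) (pullback.snd H.hom b ≫ a₀.left) ht')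
    (pullback.lift_snd _ _ _)
  have hb : a₀.left ≫ f = b := (Over.w a₀).trans (Category.id_comp b)
  let c : (Over.map b).obj X ⟶ (Over.map f).obj Z := Over.homMk (𝟙 _) (by
    show 𝟙 _ ≫ (pullback.snd H.hom b ≫ a₀.left) ≫ f = pullback.snd H.hom b ≫ b
    rw [Category.id_comp, Category.assoc, hb])
  have e1 : c ≫ theta f z = theta b (𝟙 X) := by
    refine Over.OverMorphism.ext ?_
    rw [Over.comp_left, theta_left, theta_left]
    show 𝟙 _ ≫ pullback.lift _ _ _ ≫ _ = 𝟙 _ ≫ _
    rw [Category.id_comp, Category.id_comp, pullback.lift_fst]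
  have e2 : c ≫ (Over.map f).map (toUnit Z) ≫
      (Over.homMk (𝟙 U) : (Over.map f).obj (𝟙_ (Over U)) ⟶ Over.mk f) = (Over.map b).map (toUnit X) ≫ a₀ := by
    refine Over.OverMorphism.ext ?_
    show 𝟙 _ ≫ (toUnit Z).left ≫ 𝟙 U = (toUnit X).left ≫ a₀.left
    rw [Category.id_comp, show (toUnit Z).left = pullback.snd H.hom b ≫ a₀.left from
      (Category.comp_id _).symm.trans (Over.w (toUnit Z)),
      show (toUnit X).left = pullback.snd H.hom b from (Category.comp_id _).symm.trans (Over.w (toUnit X))]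
    exact Category.comp_id _
  have h := congrArg (c ≫ ·) (hu Z z)
  have h' := hu₀ X (𝟙 X)
  simp only [lift_whiskerLeft_assoc, comp_lift_assoc] at h h'
  rw [e1, e2, ← h'] at h
  have h2 := congrArg Over.Hom.left h
  rw [Category.id_comp, Over.comp_left, theta_left, theta_left, Over.comp_left, Category.assoc] at h2
  exact (Category.id_comp _).symm.trans h2

/-- The comparison of a lifted subgroup with the given one at the point. -/
theorem exists_iso_compat {S S₁ S₂ U K K₀ : Scheme.{u}} {fs : K₀ ⟶ S} {f₁ : S₁ ⟶ S} {q : S₂ ⟶ S₁} {τ : K ⟶ S₁}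
    {b : K ⟶ S₂} {io : U ⟶ S₂} {l : K ⟶ U} {si : K ⟶ K₀} [IsIso si] {e : U ⟶ S} {σ : K₀ ⟶ U}
    {G : Over S} {H₀ : Over K₀} {H₁ : Over S₁} (i₀ : H₀ ⟶ Red.bc fs G) (hbq : b ≫ q = τ)
    (ei : Red.bc τ H₁ ≅ Red.bc si H₀) (u₀ : Red.bc τ H₁ ⟶ Red.bc τ (Red.bc f₁ G))
    (uh : Red.bc q H₁ ⟶ Red.bc q (Red.bc f₁ G)) (i' : Red.bc io (Red.bc q H₁) ⟶ Red.bc e G)
    (c₁ : Red.bc l (Red.bc io (Red.bc q H₁)) ≅ Red.bc b (Red.bc q H₁))
    (hc₁ : c₁.hom.left ≫ pullback.fst (Red.bc q H₁).hom b =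
      pullback.fst (Red.bc io (Red.bc q H₁)).hom l ≫ pullback.fst (Red.bc q H₁).hom io)
    (c₂ : Red.bc b (Red.bc q H₁) ≅ Red.bc τ H₁)
    (hc₂ : c₂.hom.left ≫ pullback.fst H₁.hom τ = pullback.fst (Red.bc q H₁).hom b ≫ pullback.fst H₁.hom q)
    (c₀ : Red.bc (inv si) (Red.bc l (Red.bc io (Red.bc q H₁))) ≅ Red.bc σ (Red.bc io (Red.bc q H₁)))
    (hc₀ : c₀.hom.left ≫ pullback.fst (Red.bc io (Red.bc q H₁)).hom σ =
      pullback.fst (Red.bc l (Red.bc io (Red.bc q H₁))).hom (inv si) ≫ pullback.fst (Red.bc io (Red.bc q H₁)).hom l)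
    (hi' : i'.left ≫ pullback.fst G.hom e = pullback.fst (Red.bc q H₁).hom io ≫ uh.left ≫
      pullback.fst (Red.bc f₁ G).hom q ≫ pullback.fst G.hom f₁)
    (hu₀ : u₀.left ≫ pullback.fst (Red.bc f₁ G).hom τ ≫ pullback.fst G.hom f₁ =
      ei.hom.left ≫ pullback.fst H₀.hom si ≫ i₀.left ≫ pullback.fst G.hom fs)
    (ht : pullback.fst H₁.hom τ ≫ H₁.hom = (pullback.snd H₁.hom τ ≫ b) ≫ q)
    (hres : pullback.lift (pullback.fst H₁.hom τ) (pullback.snd H₁.hom τ ≫ b) ht ≫ uh.left ≫
      pullback.fst (Red.bc f₁ G).hom q = u₀.left ≫ pullback.fst (Red.bc f₁ G).hom τ) :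
    ∃ φ : H₀.left ≅ (Red.bc σ (Red.bc io (Red.bc q H₁))).left,
      φ.hom ≫ (Red.bc σ (Red.bc io (Red.bc q H₁))).hom = H₀.hom ∧
      φ.hom ≫ ((Over.pullback σ).map i').left ≫ pullback.fst (Red.bc e G).hom σ ≫ pullback.fst G.hom e =
        i₀.left ≫ pullback.fst G.hom fs := by
  let H' := Red.bc io (Red.bc q H₁)
  let ψ : Red.bc si H₀ ≅ Red.bc l H' := ei.symm ≪≫ c₂.symm ≪≫ c₁.symm
  refine ⟨(asIso (pullback.fst H₀.hom si)).symm ≪≫ (Over.forget _).mapIso ψ ≪≫
    (asIso (pullback.fst (Red.bc l H').hom (inv si))).symm ≪≫ (Over.forget _).mapIso c₀, ?_, ?_⟩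
  · have h1 : inv (pullback.fst (Red.bc l H').hom (inv si)) ≫ pullback.snd (Red.bc l H').hom (inv si) =
        (Red.bc l H').hom ≫ si := by
      rw [IsIso.inv_comp_eq, pullback.condition_assoc]
      simp
    have h2 : c₀.hom.left ≫ (Red.bc σ H').hom = pullback.snd (Red.bc l H').hom (inv si) := Over.w c₀.hom
    have h3 : ψ.hom.left ≫ (Red.bc l H').hom = pullback.snd H₀.hom si := Over.w ψ.hom
    show (inv (pullback.fst H₀.hom si) ≫ ψ.hom.left ≫ inv (pullback.fst (Red.bc l H').hom (inv si)) ≫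
      c₀.hom.left) ≫ (Red.bc σ H').hom = H₀.hom
    rw [Category.assoc, Category.assoc, Category.assoc, h2, h1, reassoc_of% h3, ← pullback.condition,
      IsIso.inv_hom_id_assoc]
  · have hmap : ((Over.pullback σ).map i').left ≫ pullback.fst (Red.bc e G).hom σ =
        pullback.fst H'.hom σ ≫ i'.left := pullback.lift_fst _ _ _
    have hc₁' : c₁.inv.left ≫ pullback.fst H'.hom l ≫ pullback.fst (Red.bc q H₁).hom io =
        pullback.fst (Red.bc q H₁).hom b := by
      rw [← hc₁, ← Over.comp_left_assoc, c₁.inv_hom_id, Over.id_left]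
      exact Category.id_comp _
    have hm : c₂.inv.left ≫ pullback.fst (Red.bc q H₁).hom b =
        pullback.lift (pullback.fst H₁.hom τ) (pullback.snd H₁.hom τ ≫ b) ht := by
      refine pullback.hom_ext ?_ ?_
      · rw [pullback.lift_fst, Category.assoc]
        erw [← hc₂]
        rw [← Over.comp_left_assoc, c₂.inv_hom_id, Over.id_left]
        exact Category.id_comp _
      · have hw : c₂.inv.left ≫ pullback.snd (Red.bc q H₁).hom b = pullback.snd H₁.hom τ := Over.w c₂.inv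
        rw [pullback.lift_snd, Category.assoc]
        exact (congrArg (c₂.inv.left ≫ ·) (pullback.condition (f := (Red.bc q H₁).hom) (g := b))).trans
          ((Category.assoc _ _ _).symm.trans (congrArg (· ≫ b) hw))
    have hψ : ψ.hom.left = ei.inv.left ≫ c₂.inv.left ≫ c₁.inv.left := rfl
    have hei : ei.inv.left ≫ ei.hom.left = 𝟙 _ := by rw [← Over.comp_left, ei.inv_hom_id, Over.id_left]
    show (inv (pullback.fst H₀.hom si) ≫ ψ.hom.left ≫ inv (pullback.fst (Red.bc l H').hom (inv si)) ≫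
      c₀.hom.left) ≫ _ ≫ _ ≫ _ = _
    rw [Category.assoc, Category.assoc, Category.assoc, reassoc_of% hmap, reassoc_of% hc₀,
      IsIso.inv_hom_id_assoc, hi', hψ, Category.assoc, Category.assoc, reassoc_of% hc₁', reassoc_of% hm,
      reassoc_of% hres, hu₀, reassoc_of% hei, IsIso.inv_hom_id_assoc]

end Groth.Agent.HenselHom
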