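import Groth.Agent.HenselHom.Main
import Groth.Agent.MultTypeLib.TwistLift
import Mathlib.RingTheory.Bialgebra.TensorProduct
import Mathlib.RingTheory.Finiteness.Descent

/-!
# Lifting a group of multiplicative type from a point to an étale neighbourhood
-/

universe u

open TensorProduct IsLocalRing
open Groth.Agent.MultTypeLib (baseChangeTrans congrBase isDiag_congr Split exists_split_of_isDiag)
open Groth.Agent.Hensel (Nbhd Henz)

noncomputable section

namespace Groth.Agent.HenselHom

/-- Group algebras of finitely generated groups are finitely presented. -/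
theorem finitePresentation_monoidAlgebra (E : Type u) [CommRing E] (M : Type u) [CommGroup M] [Group.FG M] :
    Algebra.FinitePresentation E (MonoidAlgebra E M) := by
  have : Monoid.FG M := Group.fg_iff_monoid_fg.mp inferInstance
  have : Algebra.FinitePresentation ℤ (MonoidAlgebra ℤ M) :=
    Algebra.FinitePresentation.of_finiteType.mp inferInstance
  exact Algebra.FinitePresentation.equiv (MonoidAlgebra.scalarTensorEquiv ℤ E (M := M))

/-- An isotrivial group with closed fibre of finite type is finitely presented. -/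
theorem finitePresentation_of_isotrivial_fibre {R : Type u} [CommRing R] [IsLocalRing R]
    {B : Type u} [CommRing B] [HopfAlgebra R B] (hB : SGA3b.IsIsotrivial R B)
    (hft : Algebra.FiniteType (R ⧸ maximalIdeal R) ((R ⧸ maximalIdeal R) ⊗[R] B)) :
    Algebra.FinitePresentation R B := by
  obtain ⟨E, _, _, -, hfin, hff, hd⟩ := id hB
  obtain ⟨M, _, hom, equiv, he⟩ := exists_split_of_isDiag E hd
  have : Nontrivial E := by
    obtain ⟨⟨q, hq⟩, -⟩ := PrimeSpectrum.comap_surjective_of_faithfullyFlat (A := R) (B := E)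
      (IsLocalRing.closedPoint R)
    exact ⟨⟨0, 1, fun h => hq.ne_top (q.eq_top_iff_one.mpr (h ▸ q.zero_mem))⟩⟩
  let E₀ := E ⊗[R] (R ⧸ maximalIdeal R)
  let _ : Algebra (R ⧸ maximalIdeal R) E₀ := Algebra.TensorProduct.rightAlgebra
  have : IsScalarTower R (R ⧸ maximalIdeal R) E₀ := Algebra.TensorProduct.right_isScalarTower
  have : Nontrivial E₀ := Module.FaithfullyFlat.lTensor_nontrivial R E (R ⧸ maximalIdeal R)
  have hT : Algebra.FiniteType E₀ (E₀ ⊗[R] B) :=
    Algebra.FiniteType.equiv inferInstance (baseChangeTrans (R := R) (R ⧸ maximalIdeal R) E₀ B).symm.toAlgEquiv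
  let P : Split R B := { S := E, M := M, hom := hom, equiv := equiv, equiv_tmul := he }
  let jE : P.S →ₐ[R] E₀ := Algebra.TensorProduct.includeLeft
  have : Group.FG M := MonoidAlgebra.finiteType_iff_group_fg.mp
    (hT.equiv (AlgEquiv.ofBijective (P.coordAt jE : E₀ ⊗[R] B →ₐ[E₀] MonoidAlgebra E₀ P.M)
      (P.coordAt_bijective jE)))
  have := finitePresentation_monoidAlgebra E M
  have : Algebra.FinitePresentation E (E ⊗[R] B) := Algebra.FinitePresentation.equiv equiv.symm
  exact Algebra.FinitePresentation.of_finitePresentation_tensorProduct_of_faithfullyFlat E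

set_option maxHeartbeats 1000000 in
/-- The lift over the henselization. -/
theorem exists_lift_henz {A : Type u} [CommRing A] (p : Ideal A) [p.IsPrime] (C₀ : Type u) [CommRing C₀]
    [HopfAlgebra p.ResidueField C₀] [Algebra.FiniteType p.ResidueField C₀] (h₀ : SGA3b.IsMultType p.ResidueField C₀) :
    ∃ (B : Type u) (_ : CommRing B) (_ : HopfAlgebra (Henz A p.ResidueField) B),
      Algebra.FinitePresentation (Henz A p.ResidueField) B ∧ SGA3b.IsIsotrivial (Henz A p.ResidueField) B ∧
      ∀ [Algebra (Henz A p.ResidueField) p.ResidueField],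
        (∀ z, algebraMap (Henz A p.ResidueField) p.ResidueField z = Henz.proj A p.ResidueField z) →
        Nonempty (p.ResidueField ⊗[Henz A p.ResidueField] B ≃ₐc[p.ResidueField] C₀) := by
  let W := Henz A p.ResidueField
  let κ := p.ResidueField
  have hm := Groth.Agent.Hensel.maximalIdeal_henz_residueField A p
  have hcomap : (maximalIdeal W).comap (algebraMap A W) = p :=
    Groth.Agent.Hensel.comap_maximalIdeal_henz_residueField A p
  let k := W ⧸ maximalIdeal W
  let _ : Field k := Ideal.Quotient.field (maximalIdeal W)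
  let ι : κ →+* k := Ideal.ResidueField.lift p ((residue W).comp (algebraMap A W))
    (fun r hr => (residue_eq_zero_iff _).mpr (show r ∈ (maximalIdeal W).comap (algebraMap A W) from hcomap.ge hr))
    fun r hr => (IsLocalRing.residue W).isUnit_map (by
      by_contra h
      exact hr (hcomap.le (show r ∈ (maximalIdeal W).comap (algebraMap A W) from h)))
  let χ : k →+* κ := Ideal.Quotient.lift (maximalIdeal W) (Henz.proj A κ).toRingHom fun z hz => by
    rw [hm] at hz
    exact hz
  have hχι : χ.comp ι = RingHom.id κ := Ideal.ResidueField.ringHom_ext (RingHom.ext fun r => by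
    show χ (ι (algebraMap A κ r)) = algebraMap A κ r
    rw [show ι (algebraMap A κ r) = residue W (algebraMap A W r) from Ideal.ResidueField.lift_algebraMap p _ _ _ r]
    exact (Henz.proj A κ).commutes r)
  let _ : Algebra κ k := ι.toAlgebra
  let C' := k ⊗[κ] C₀
  have h0 : SGA3b.IsIsotrivial k C' :=
    Groth.Agent.MultTypeLib.isIsotrivial_of_field_ext k k C' inferInstance
      (Groth.Agent.MultTypeLib.isMultType_baseChange k (Groth.Agent.MultTypeLib.isMultType_baseChange k h₀))
  obtain ⟨B, _, _, hB, -, ⟨eB⟩⟩ := Groth.Agent.MultTypeLib.exists_isotrivial_lift (maximalIdeal W) C' h0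
  have hft : Algebra.FiniteType k (k ⊗[W] B) :=
    Algebra.FiniteType.equiv (inferInstance : Algebra.FiniteType k C') eB.symm.toAlgEquiv
  refine ⟨B, inferInstance, inferInstance, finitePresentation_of_isotrivial_fibre hB hft, hB, fun {_} hW => ?_⟩
  let _ : Algebra k κ := χ.toAlgebra
  have : IsScalarTower W k κ := IsScalarTower.of_algebraMap_eq fun z => hW z
  have : IsScalarTower κ k κ := IsScalarTower.of_algebraMap_eq fun z => (RingHom.congr_fun hχι z).symm
  exact ⟨(baseChangeTrans (R := W) k κ B).trans ((congrBase κ eB).trans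
    ((baseChangeTrans (R := κ) k κ C₀).symm.trans (Bialgebra.TensorProduct.lid κ C₀)))⟩

set_option maxHeartbeats 1000000 in
/-- A group of multiplicative type over a point lifts to an étale neighbourhood. -/
theorem exists_lift_group {A : Type u} [CommRing A] (p : Ideal A) [p.IsPrime] (C₀ : Type u) [CommRing C₀]
    [HopfAlgebra p.ResidueField C₀] [Algebra.FiniteType p.ResidueField C₀] (h₀ : SGA3b.IsMultType p.ResidueField C₀) :
    ∃ (M : Nbhd A p.ResidueField) (D : Type u) (_ : CommRing D) (_ : HopfAlgebra M.B D),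
      Algebra.FinitePresentation M.B D ∧ SGA3b.IsIsotrivial M.B D ∧
      ∀ [Algebra M.B p.ResidueField], (∀ b, algebraMap M.B p.ResidueField b = M.toK b) →
        Nonempty (p.ResidueField ⊗[M.B] D ≃ₐc[p.ResidueField] C₀) := by
  obtain ⟨B, _, _, hfp, hB, hfib⟩ := exists_lift_henz p C₀ h₀
  let W := Henz A p.ResidueField
  let κ := p.ResidueField
  obtain ⟨G, _, _, hG, X, _, _, _, ⟨eB⟩⟩ := Groth.Agent.MultTypeLib.exists_hopf_model_int W B
  have hcolim : DirColim.IsColim (R := ℤ) (G := fun N : Nbhd A κ => N.B) (A := W)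
      (fun N => (Henz.ofB N).toRingHom.toIntAlgHom) := by
    have h := isColim_nbhd (A := A) (K := κ)
    refine ⟨h.surj, fun i j => ?_, fun i x hx => ?_⟩
    · obtain ⟨k, ⟨α⟩, ⟨β⟩⟩ := h.directed i j
      exact ⟨k, ⟨⟨α.1.toRingHom.toIntAlgHom, AlgHom.ext fun z => α.apply z⟩⟩,
        ⟨⟨β.1.toRingHom.toIntAlgHom, AlgHom.ext fun z => β.apply z⟩⟩⟩
    · obtain ⟨j, α, hα⟩ := h.ker i x hx
      exact ⟨j, ⟨α.1.toRingHom.toIntAlgHom, AlgHom.ext fun z => α.apply z⟩, hα⟩
  obtain ⟨N, g, hg⟩ := hcolim.exists_lift ((algebraMap G W).toIntAlgHom)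
  let _ : Algebra N.B W := (Henz.ofB N).toRingHom.toAlgebra
  let _ : Algebra G N.B := g.toRingHom.toAlgebra
  have : IsScalarTower G N.B W := IsScalarTower.of_algebraMap_eq fun x => (AlgHom.congr_fun hg x).symm
  have : Algebra.FinitePresentation G X := by
    have : IsNoetherianRing G := Algebra.FiniteType.isNoetherianRing ℤ G
    exact Algebra.FinitePresentation.of_finiteType.mp inferInstance
  let D := N.B ⊗[G] X
  have hWD : SGA3b.IsIsotrivial W (W ⊗[N.B] D) :=
    isIsotrivial_congr (eB.symm.trans (baseChangeTrans (R := G) N.B W X)) hB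
  obtain ⟨r, hr⟩ := exists_isotrivial_ref N (fun _ => rfl) D hWD
  refine ⟨r.M, r.B ⊗[N.B] D, inferInstance, (inferInstance : HopfAlgebra r.B (r.B ⊗[N.B] D)),
    (inferInstance : Algebra.FinitePresentation r.B (r.B ⊗[N.B] D)), hr, fun {aκ} hκ => ?_⟩
  let i₁ : Algebra r.B κ := aκ
  let _ : Algebra W κ := (Henz.proj A κ).toRingHom.toAlgebra
  let _ : Algebra N.B κ := N.toK.toRingHom.toAlgebra
  have : IsScalarTower N.B W κ := IsScalarTower.of_algebraMap_eq fun b => (Henz.proj_ofB N b).symm
  have : IsScalarTower N.B r.B κ := IsScalarTower.of_algebraMap_eq fun b =>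
    ((hκ (algebraMap N.B r.B b)).trans (Ref.toK_algebraMap r b)).symm
  obtain ⟨e⟩ := hfib (fun _ => rfl)
  exact ⟨(baseChangeTrans (R := N.B) r.B κ D).symm.trans ((baseChangeTrans (R := N.B) W κ D).trans
    ((congrBase κ ((baseChangeTrans (R := G) N.B W X).symm.trans eB)).trans e))⟩

end Groth.Agent.HenselHom
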