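import Groth.Agent.HenselHom.Bridge
import Groth.Agent.HenselHom.LiftGroup
import Groth.Agent.S0536
import Mathlib.AlgebraicGeometry.Morphisms.Smooth

/-!
# Points of smooth schemes lift to étale neighbourhoods
-/

universe u

open CategoryTheory CategoryTheory.Limits AlgebraicGeometry IsLocalRing
open Groth.Agent.Hensel (Nbhd Henz)

noncomputable section

namespace Groth.Agent.HenselHom

/-- The residue map of the henselization at a prime is surjective. -/
theorem surjective_proj {A : Type u} [CommRing A] (p : Ideal A) [p.IsPrime] :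
    Function.Surjective (Henz.proj A p.ResidueField) := by
  intro y
  obtain ⟨a, s, hs, rfl⟩ := IsFractionRing.div_surjective (A ⧸ p) y
  obtain ⟨a, rfl⟩ := Ideal.Quotient.mk_surjective a
  obtain ⟨s, rfl⟩ := Ideal.Quotient.mk_surjective s
  have hsp : s ∉ p := fun h => nonZeroDivisors.ne_zero hs (Ideal.Quotient.eq_zero_iff_mem.mpr h)
  have hu : IsUnit (algebraMap A (Henz A p.ResidueField) s) := by
    by_contra h
    exact hsp ((Groth.Agent.Hensel.comap_maximalIdeal_henz_residueField A p).le
      (show s ∈ (maximalIdeal (Henz A p.ResidueField)).comap (algebraMap A _) from h))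
  refine ⟨algebraMap A _ a * ↑hu.unit⁻¹, ?_⟩
  rw [map_mul, map_units_inv, hu.unit_spec, AlgHom.commutes, AlgHom.commutes,
    Ideal.algebraMap_quotient_residueField_mk, Ideal.algebraMap_quotient_residueField_mk, div_eq_mul_inv]

/-- A point of a smooth algebra with values in a henselian residue ring lifts. -/
theorem exists_lift_of_henselian {B W K R : Type u} [CommRing B] [CommRing W] [CommRing K] [CommRing R]
    [Algebra B W] [Algebra B R] [Algebra.Smooth B R] (π : W →+* K) (hπ : Function.Surjective π)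
    [HenselianRing W (RingHom.ker π)] (χ : R →+* K)
    (hχ : ∀ b, χ (algebraMap B R b) = π (algebraMap B W b)) :
    ∃ τ : R →ₐ[B] W, ∀ x, π (τ x) = χ x := by
  let q : W ⧸ RingHom.ker π ≃+* K := RingHom.quotientKerEquivOfSurjective hπ
  have hq : ∀ w, q (Ideal.Quotient.mk (RingHom.ker π) w) = π w := fun w =>
    RingHom.quotientKerEquivOfSurjective_apply_mk hπ w
  let σ : R →ₐ[B] W ⧸ RingHom.ker π :=
    { q.symm.toRingHom.comp χ with
      commutes' := fun b => by
        show q.symm (χ (algebraMap B R b)) = Ideal.Quotient.mk (RingHom.ker π) (algebraMap B W b)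
        rw [hχ, RingEquiv.symm_apply_eq, hq] }
  obtain ⟨τ, hτ⟩ := Groth.Agent.S0536.result B R W (RingHom.ker π) σ
  refine ⟨τ, fun x => ?_⟩
  have h2 : Ideal.Quotient.mk (RingHom.ker π) (τ x) = q.symm (χ x) := AlgHom.congr_fun hτ x
  rw [eq_comm, RingEquiv.symm_apply_eq, hq] at h2
  exact h2.symm

/-- The kernel of the residue map is a henselian ideal. -/
theorem henselianRing_ker_proj {A : Type u} [CommRing A] (K : Type u) [CommRing K] [Algebra A K] :
    HenselianRing (Henz A K) (RingHom.ker (Henz.proj A K).toRingHom) :=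
  Henz.henselianRing

/-- A point of a smooth algebra with values in the residue field lifts to a refinement. -/
theorem exists_algHom_ref {A : Type u} [CommRing A] (p : Ideal A) [p.IsPrime] (M : Nbhd A p.ResidueField)
    (R : Type u) [CommRing R] [Algebra M.B R] [Algebra.Smooth M.B R]
    (χ : R →+* p.ResidueField) (hχ : ∀ b, χ (algebraMap M.B R b) = M.toK b) :
    ∃ (r : Ref M) (g : R →ₐ[M.B] r.B), ∀ x, r.M.toK (g x) = χ x := by
  let i₀ : Algebra M.B (Henz A p.ResidueField) := (Henz.ofB M).toRingHom.toAlgebra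
  obtain ⟨τ, hτ⟩ := @exists_lift_of_henselian M.B (Henz A p.ResidueField) p.ResidueField R _ _ _ _ i₀ _ _
    (Henz.proj A p.ResidueField).toRingHom (surjective_proj p) (henselianRing_ker_proj _) χ
    (fun b => (hχ b).trans (Henz.proj_ofB M b).symm)
  obtain ⟨r, g, hg⟩ := (isColim_ref M (fun _ => rfl)).exists_lift τ
  refine ⟨r, g, fun x => ?_⟩
  have h1 : Henz.ofB r.M (g x) = τ x := AlgHom.congr_fun hg x
  exact (Henz.proj_ofB r.M (g x)).symm.trans ((congrArg (Henz.proj A p.ResidueField) h1).trans (hτ x))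

set_option maxHeartbeats 1000000 in
/-- A point of a smooth scheme over a neighbourhood lifts to a refinement. -/
theorem exists_section_ref {A : Type u} [CommRing A] (p : Ideal A) [p.IsPrime] (M : Nbhd A p.ResidueField)
    (X : Over (Spec (CommRingCat.of M.B))) [Smooth X.hom]
    (a : Spec (CommRingCat.of p.ResidueField) ⟶ X.left)
    (ha : a ≫ X.hom = Spec.map (CommRingCat.ofHom M.toK.toRingHom)) :
    ∃ (r : Ref M) (h : Spec (CommRingCat.of r.B) ⟶ X.left), h ≫ X.hom = specAlg M.B r.B ∧
      Spec.map (CommRingCat.ofHom (show r.B →+* p.ResidueField from r.M.toK.toRingHom)) ≫ h = a := by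
  obtain ⟨W, hW, hxW, -⟩ := exists_isAffineOpen_mem_and_subset
    (show a (closedPoint p.ResidueField) ∈ (⊤ : X.left.Opens) from trivial)
  have hr : Set.range a ⊆ Set.range hW.fromSpec := by
    rintro _ ⟨z, rfl⟩
    rw [hW.range_fromSpec, Subsingleton.elim z (closedPoint p.ResidueField)]
    exact hxW
  let R : Type u := Γ(X.left, W)
  let ψ : M.B →+* R := (Spec.preimage (hW.fromSpec ≫ X.hom)).hom
  let χ : R →+* p.ResidueField := (Spec.preimage (IsOpenImmersion.lift hW.fromSpec a hr)).hom
  have hψ : Spec.map (CommRingCat.ofHom ψ) = hW.fromSpec ≫ X.hom := Spec.map_preimage _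
  have hχ : Spec.map (CommRingCat.ofHom χ) ≫ hW.fromSpec = a := by
    rw [show Spec.map (CommRingCat.ofHom χ) = IsOpenImmersion.lift hW.fromSpec a hr from Spec.map_preimage _,
      IsOpenImmersion.lift_fac]
  let _ : Algebra M.B R := ψ.toAlgebra
  have : Algebra.Smooth M.B R := by
    haveI : Smooth (Spec.map (CommRingCat.ofHom ψ)) := by rw [hψ]; infer_instance
    exact (RingHom.smooth_algebraMap (R := M.B) (S := R)).mp ((HasRingHomProperty.Spec_iff (P := @Smooth)).mp this)
  have hb : χ.comp ψ = M.toK.toRingHom := by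
    refine congrArg CommRingCat.Hom.hom (Spec.map_injective
      (a₁ := CommRingCat.ofHom (χ.comp ψ)) (a₂ := CommRingCat.ofHom M.toK.toRingHom) ?_)
    rw [← ha, ← hχ, Category.assoc, ← hψ, ← Spec.map_comp, ← CommRingCat.ofHom_comp]
  obtain ⟨r, g, hg⟩ := exists_algHom_ref p M R χ (RingHom.congr_fun hb)
  refine ⟨r, Spec.map (CommRingCat.ofHom g.toRingHom) ≫ hW.fromSpec, ?_, ?_⟩
  · rw [Category.assoc, ← hψ, ← Spec.map_comp, ← CommRingCat.ofHom_comp]
    exact congrArg (fun k => Spec.map (CommRingCat.ofHom k)) (RingHom.ext g.commutes)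
  · rw [← hχ, ← Category.assoc, ← Spec.map_comp, ← CommRingCat.ofHom_comp]
    exact congrArg (fun k => Spec.map (CommRingCat.ofHom k) ≫ hW.fromSpec) (RingHom.ext hg)

end Groth.Agent.HenselHom
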