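import Groth.Agent.HenselHom.LiftTorus
import Groth.Agent.TorusQI.MaxSubtorus
import Groth.Agent.SolvGrp.Fibre

/-!
# Maximal split tori over a henselian local ring
-/

universe u

open CategoryTheory CategoryTheory.Limits MonoidalCategory CartesianMonoidalCategory MonObj AlgebraicGeometry IsLocalRing

set_option backward.isDefEq.respectTransparency false
set_option backward.isDefEq.respectTransparency.types false
set_option synthInstance.maxHeartbeats 80000
set_option linter.style.haveILetI false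

noncomputable section

namespace Groth.Agent.HenselHom

open GrpSchLib

variable {O : Type u} [CommRing O] [HenselianLocalRing O]

local notation "cpt" => Spec.map (CommRingCat.ofHom (IsLocalRing.residue O))

variable {G : Over (Spec (CommRingCat.of O))} [GrpObj G]

/-- A factorisation of a homomorphism through a monomorphism of groups is a homomorphism. -/
theorem isMonHom_of_comp_mono {S : Scheme.{u}} {A B C : Over S} [GrpObj A] [GrpObj B] [GrpObj C] (f : A ⟶ B)
    (m : B ⟶ C) [IsMonHom m] [Mono m] [IsMonHom (f ≫ m)] : IsMonHom f :=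
  AGFLib.isMonHom_of_mul _ fun X a b => (cancel_mono m).mp (by
    rw [Category.assoc, MonObj.mul_comp a b (f ≫ m), MonObj.mul_comp, Category.assoc, Category.assoc])

/-- A split torus over the closed point comes from the split torus over the base. -/
theorem exists_split_model {T₀ : Over (Spec (CommRingCat.of (ResidueField O)))} [GrpObj T₀] {r : ℕ}
    (h : Red.IsSplitTorusWith (Fin r → ℤ) T₀) :
    ∃ e : Red.bc (cpt) (Red.DS (Spec (CommRingCat.of O)) (Fin r → ℤ)) ≅ T₀, IsMonHom e.hom := by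
  obtain ⟨e₁⟩ := h
  obtain ⟨e₂⟩ := MultTypeBC.bc_DS (cpt) (Fin r → ℤ)
  exact ⟨(Grp.forget _).mapIso (e₂ ≪≫ e₁.symm), (e₂ ≪≫ e₁.symm).hom.hom.isMonHom_hom⟩

instance (r : ℕ) : Smooth (Red.DS (Spec (CommRingCat.of O)) (Fin r → ℤ)).hom := FixTorus.smooth_DS _ r

instance (r : ℕ) : IsAffineHom (Red.DS (Spec (CommRingCat.of O)) (Fin r → ℤ)).hom := HomRepLib.isAffineHom_DS _ _

/-- Split tori stay split after base change. -/
theorem isSplitTorusWith_bc {S S' : Scheme.{u}} (t : S' ⟶ S) {M : Type} [AddCommGroup M] {T : Over S} [GrpObj T]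
    (h : Red.IsSplitTorusWith M T) : Red.IsSplitTorusWith M (Red.bc t T) := by
  obtain ⟨e₁⟩ := h
  obtain ⟨e₂⟩ := MultTypeBC.bc_iso t e₁
  obtain ⟨e₃⟩ := MultTypeBC.bc_DS t M
  exact ⟨e₂ ≪≫ e₃⟩

/-- Split tori are smooth and affine. -/
theorem smooth_affine_of_split {T : Over (Spec (CommRingCat.of O))} [GrpObj T] {r : ℕ}
    (h : Red.IsSplitTorusWith (Fin r → ℤ) T) : Smooth T.hom ∧ IsAffineHom T.hom := by
  obtain ⟨e⟩ := h
  let ei : T ≅ Red.DS (Spec (CommRingCat.of O)) (Fin r → ℤ) := (Grp.forget _).mapIso e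
  haveI : IsIso ei.hom.left := inferInstanceAs (IsIso ((Over.forget _).map ei.hom))
  rw [← Over.w ei.hom]
  exact ⟨inferInstance, inferInstance⟩

set_option maxHeartbeats 1000000 in
/-- The closed fibre of a maximal split torus is maximal split. -/
theorem maximalSplit_fibre [Smooth G.hom] [IsAffineHom G.hom] {T : Over (Spec (CommRingCat.of O))} [GrpObj T]
    (σ : T ⟶ G) [IsMonHom σ] [Mono σ] (hT : Red.IsTorus T)
    (hmax : ∀ (T' : Over (Spec (CommRingCat.of O))) [GrpObj T'] (σ' : T' ⟶ G) [IsMonHom σ'] [Mono σ'] (f : T ⟶ T'),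
      Red.IsTorus T' → (∃ r : ℕ, Red.IsSplitTorusWith (Fin r → ℤ) T') → f ≫ σ' = σ → IsIso f)
    (T' : Over (Spec (CommRingCat.of (ResidueField O)))) [GrpObj T'] (σ' : T' ⟶ Red.bc (cpt) G) [IsMonHom σ'] [Mono σ']
    (f : Red.bc (cpt) T ⟶ T') (hT' : Red.IsTorus T') (hr : ∃ r : ℕ, Red.IsSplitTorusWith (Fin r → ℤ) T')
    (hf : f ≫ σ' = (Over.pullback (cpt)).map σ) : IsIso f := by
  obtain ⟨r, hr⟩ := hr
  haveI : (Over.pullback (cpt)).IsRightAdjoint := (Over.mapPullbackAdj (cpt)).isRightAdjoint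
  haveI : IsMonHom f := by
    haveI : IsMonHom (f ≫ σ') := by rw [hf]; infer_instance
    exact isMonHom_of_comp_mono f σ'
  haveI : Mono f := by
    haveI : Mono (f ≫ σ') := by rw [hf]; infer_instance
    exact mono_of_mono f σ'
  have hHT := TorusQI.isMultTypeFT_of_isTorus hT
  obtain ⟨C, _, j, hC, hjc, hCs⟩ := Groth.Agent.S5247.result T G hHT ‹_› ‹_› σ
  haveI := hC.1
  haveI := hC.2.1
  haveI := hjc
  haveI := hCs
  haveI : IsAffineHom C.hom := by rw [← Over.w j]; infer_instance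
  obtain ⟨σC, hσC⟩ := (hC.2.2 _ σ).mpr fun X x h => by
    rw [← MonObj.mul_comp, ← MonObj.mul_comp, RankOne.torus_mul_comm hT]
  haveI : IsMonHom σC := by
    haveI : IsMonHom (σC ≫ j) := by rw [hσC]; infer_instance
    exact isMonHom_of_comp_mono σC j
  have hCb := SolvGrp.isCentralizerOf_bc (σ := cpt) σ j hC
  obtain ⟨z', hz'⟩ := (hCb.2.2 _ σ').mpr fun X x h => by
    rw [← hf, ← Category.assoc h f σ', ← MonObj.mul_comp, ← MonObj.mul_comp, RankOne.torus_mul_comm hT']
  haveI : IsMonHom z' := by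
    haveI : IsMonHom (z' ≫ (Over.pullback (cpt)).map j) := by rw [hz']; infer_instance
    exact isMonHom_of_comp_mono z' ((Over.pullback (cpt)).map j)
  haveI : Mono z' := by
    haveI : Mono (z' ≫ (Over.pullback (cpt)).map j) := by rw [hz']; infer_instance
    exact mono_of_mono z' ((Over.pullback (cpt)).map j)
  obtain ⟨e, _⟩ := exists_split_model (O := O) hr
  let T₁ := Red.DS (Spec (CommRingCat.of O)) (Fin r → ℤ)
  have hT₁ : Red.IsTorus T₁ := TorusQI.isTorus_DS r
  have hH₁ : SGA3x.IsMultTypeFT T₁ := TorusQI.isMultTypeFT_of_isTorus hT₁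
  obtain ⟨a, _, ha⟩ := exists_hom_lift (G := C) hH₁ (e.hom ≫ z')
  haveI : Mono ((Over.pullback (cpt)).map a) := by rw [ha]; exact mono_comp e.hom z'
  haveI : Mono a := mono_of_fibre_mono hH₁ a
  obtain ⟨φ, _, hφ⟩ := exists_hom_lift (G := T₁) hHT (f ≫ e.inv)
  have hφa : φ ≫ a = σC := by
    refine eq_of_fibre_eq hHT _ _ (fun X p y => (cancel_mono j).mp ?_) ((cancel_mono ((Over.pullback (cpt)).map j)).mp ?_)
    · rw [MonObj.mul_comp, MonObj.mul_comp, Category.assoc, hσC]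
      have h := ((hC.2.2 _ j).mp ⟨𝟙 C, Category.id_comp j⟩) X p y
      exact h
    · rw [Functor.map_comp, hφ, ha, ← Functor.map_comp (Over.pullback (cpt)) σC j, hσC, ← hf, ← hz']
      simp only [Category.assoc, Iso.inv_hom_id_assoc]
  haveI : IsIso φ := hmax T₁ (a ≫ j) φ hT₁ ⟨r, ⟨Iso.refl _⟩⟩ (by rw [← Category.assoc, hφa, hσC])
  haveI : IsIso (f ≫ e.inv) := by rw [← hφ]; infer_instance
  exact IsIso.of_isIso_comp_right f e.inv

set_option maxHeartbeats 1000000 in
/-- A maximal split torus of the closed fibre lifts. -/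
theorem exists_maximalSplit_lift [Smooth G.hom] [IsAffineHom G.hom]
    (T₀ : Over (Spec (CommRingCat.of (ResidueField O)))) [GrpObj T₀] (σ₀ : T₀ ⟶ Red.bc (cpt) G) [IsMonHom σ₀] [Mono σ₀]
    {r : ℕ} (hr : Red.IsSplitTorusWith (Fin r → ℤ) T₀)
    (hmax : ∀ (T' : Over (Spec (CommRingCat.of (ResidueField O)))) [GrpObj T'] (σ' : T' ⟶ Red.bc (cpt) G) [IsMonHom σ']
      [Mono σ'] (f : T₀ ⟶ T'), Red.IsTorus T' → (∃ r : ℕ, Red.IsSplitTorusWith (Fin r → ℤ) T') → f ≫ σ' = σ₀ → IsIso f) :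
    ∃ (σ : Red.DS (Spec (CommRingCat.of O)) (Fin r → ℤ) ⟶ G) (_ : IsMonHom σ) (_ : Mono σ),
      (∀ (T' : Over (Spec (CommRingCat.of O))) [GrpObj T'] (σ' : T' ⟶ G) [IsMonHom σ'] [Mono σ']
        (f : Red.DS (Spec (CommRingCat.of O)) (Fin r → ℤ) ⟶ T'),
        Red.IsTorus T' → (∃ r : ℕ, Red.IsSplitTorusWith (Fin r → ℤ) T') → f ≫ σ' = σ → IsIso f) ∧
      ∃ e : Red.bc (cpt) (Red.DS (Spec (CommRingCat.of O)) (Fin r → ℤ)) ≅ T₀, e.hom ≫ σ₀ = (Over.pullback (cpt)).map σ := by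
  obtain ⟨e, _⟩ := exists_split_model (O := O) hr
  let T := Red.DS (Spec (CommRingCat.of O)) (Fin r → ℤ)
  have hT : Red.IsTorus T := TorusQI.isTorus_DS r
  have hH := TorusQI.isMultTypeFT_of_isTorus hT
  obtain ⟨σ, _, hσ⟩ := exists_hom_lift (G := G) hH (e.hom ≫ σ₀)
  haveI : Mono ((Over.pullback (cpt)).map σ) := by rw [hσ]; exact mono_comp e.hom σ₀
  haveI : Mono σ := mono_of_fibre_mono hH σ
  refine ⟨σ, inferInstance, inferInstance, fun T' _ σ' _ _ f hT' hr' hf => ?_, e, hσ.symm⟩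
  obtain ⟨r', hr'⟩ := hr'
  obtain ⟨_, _⟩ := smooth_affine_of_split hr'
  haveI : IsMonHom f := by
    haveI : IsMonHom (f ≫ σ') := by rw [hf]; infer_instance
    exact isMonHom_of_comp_mono f σ'
  haveI : (Over.pullback (cpt)).IsRightAdjoint := (Over.mapPullbackAdj (cpt)).isRightAdjoint
  have hsplit := isSplitTorusWith_bc (cpt) hr'
  haveI : IsMonHom ((Over.pullback (cpt)).map σ') := inferInstance
  haveI : Mono ((Over.pullback (cpt)).map σ') := inferInstance
  have hfac : (e.inv ≫ (Over.pullback (cpt)).map f) ≫ (Over.pullback (cpt)).map σ' = σ₀ := by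
    rw [Category.assoc, ← Functor.map_comp, hf, hσ, Iso.inv_hom_id_assoc]
  haveI : IsIso (e.inv ≫ (Over.pullback (cpt)).map f) :=
    hmax (Red.bc (cpt) T') ((Over.pullback (cpt)).map σ') _ (SolvGrp.isTorus_bc (cpt) hT') ⟨r', hsplit⟩ hfac
  haveI hfb : IsIso ((Over.pullback (cpt)).map f) := by
    have h := @IsIso.comp_isIso _ _ _ _ _ e.hom (e.inv ≫ (Over.pullback (cpt)).map f) e.isIso_hom ‹_›
    rwa [Iso.hom_inv_id_assoc] at h
  exact isIso_of_fibre_isIso hT hT' f

end Groth.Agent.HenselHom
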