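import Groth.Agent.HenselHom.LiftSection
import Groth.Agent.HenselHom.LiftCompat
import Groth.Agent.GrpSchLib.MultTypeLfp
import Groth.Agent.S5246

/-!
# Subgroups of multiplicative type lift to étale neighbourhoods
-/

universe u

open CategoryTheory CategoryTheory.Limits MonoidalCategory CartesianMonoidalCategory MonObj AlgebraicGeometry IsLocalRing
open Groth.Agent.Hensel (Nbhd)

set_option backward.isDefEq.respectTransparency.types false
set_option synthInstance.maxHeartbeats 80000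

noncomputable section

namespace Groth.Agent.HenselHom

open GrpSchLib GrpSchLib.AffineHopf

set_option maxHeartbeats 1000000 in
/-- The coordinate ring of the group of multiplicative type at the point of a chart. -/
theorem exists_fibre_hopf {k : Type u} [Field k] (H : Over (Spec (CommRingCat.of k))) [GrpObj H]
    (hH : SGA3x.IsMultTypeFT H) :
    ∃ (C : Type u) (_ : CommRing C) (_ : HopfAlgebra k C), Algebra.FiniteType k C ∧ SGA3b.IsMultType k C ∧
      Nonempty (Grp.mk (sp k C) ≅ Grp.mk H) := by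
  obtain ⟨C, _, _, hm, ⟨e⟩⟩ := MultTypeLib.SchemeBridge.exists_hopf_multType H hH
  refine ⟨C, inferInstance, inferInstance, ?_, hm, ⟨e⟩⟩
  haveI := MultTypeLfp.lfp hH
  haveI : LocallyOfFiniteType (sp k C).hom := by
    have hw := Over.w e.hom.hom.hom
    haveI : IsIso e.hom.hom.hom.left :=
      ⟨e.inv.hom.hom.left, congrArg (fun h => h.hom.hom.left) e.hom_inv_id,
        congrArg (fun h => h.hom.hom.left) e.inv_hom_id⟩
    rw [← hw]
    infer_instance
  exact RingHom.finiteType_algebraMap.mp ((HasRingHomProperty.Spec_iff (P := @LocallyOfFiniteType)).mp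
    (show LocallyOfFiniteType (Spec.map (CommRingCat.ofHom (algebraMap k C))) from ‹_›))

set_option maxHeartbeats 2000000 in
/-- A subgroup of multiplicative type of a fibre lifts to an étale neighbourhood. -/
theorem exists_lift_subgroup {A : Type u} [CommRing A] {S : Scheme.{u}} (j : Spec (CommRingCat.of A) ⟶ S)
    [IsOpenImmersion j] (p : PrimeSpectrum A) (G : Over S) [GrpObj G] [Smooth G.hom] [IsAffineHom G.hom]
    (H₀ : Over (Spec (S.residueField (j p)))) [GrpObj H₀] (i₀ : H₀ ⟶ Red.bc (S.fromSpecResidueField (j p)) G)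
    [IsMonHom i₀] [Mono i₀] (hH₀ : SGA3x.IsMultTypeFT H₀) :
    ∃ (S' : Scheme.{u}) (e : S' ⟶ S) (σ : Spec (S.residueField (j p)) ⟶ S'), Etale e ∧
      σ ≫ e = S.fromSpecResidueField (j p) ∧
      ∃ (H' : Over S') (_ : GrpObj H') (i' : H' ⟶ Red.bc e G) (_ : IsMonHom i') (_ : Mono i'), SGA3x.IsMultTypeFT H' ∧
        ∃ φ : H₀.left ≅ (Red.bc σ H').left, φ.hom ≫ (Red.bc σ H').hom = H₀.hom ∧
          φ.hom ≫ ((Over.pullback σ).map i').left ≫ pullback.fst (Red.bc e G).hom σ ≫ pullback.fst G.hom e =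
            i₀.left ≫ pullback.fst G.hom (S.fromSpecResidueField (j p)) := by
  obtain ⟨si, hsi, hσ⟩ := exists_residue_iso j p
  haveI := hsi
  let κ := p.asIdeal.ResidueField
  let fs := S.fromSpecResidueField (j p)
  obtain ⟨C₀, _, _, hft, hm, ⟨eC₀⟩⟩ := exists_fibre_hopf (Red.bc si H₀) (MultTypeBC.isMultTypeFT_bc si hH₀)
  obtain ⟨M, D, _, _, hfp, hD, hfib⟩ := exists_lift_group p.asIdeal C₀ hm
  letI : Algebra M.B κ := M.toK.toRingHom.toAlgebra
  obtain ⟨eD⟩ := hfib (fun _ => rfl)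
  haveI : Nontrivial M.B := M.toK.toRingHom.domain_nontrivial
  let f₁ : Spec (CommRingCat.of M.B) ⟶ S := specAlg A M.B ≫ j
  let τ : Spec (CommRingCat.of κ) ⟶ Spec (CommRingCat.of M.B) := specAlg M.B κ
  have hτ : τ ≫ f₁ = si ≫ fs := by
    rw [hσ, ← Category.assoc, ← Spec.map_comp, ← CommRingCat.ofHom_comp]
    exact congrArg (fun k => Spec.map (CommRingCat.ofHom k) ≫ j) (RingHom.ext M.toK.commutes)
  let H₁ := sp M.B D
  let G₁ := Red.bc f₁ G
  haveI : Smooth G₁.hom := inferInstanceAs (Smooth (pullback.snd G.hom f₁))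
  haveI : IsAffineHom G₁.hom := inferInstanceAs (IsAffineHom (pullback.snd G.hom f₁))
  have hH₁ : SGA3x.IsMultTypeFT H₁ := (exists_split_cover hD).1
  obtain ⟨e₁⟩ := nonempty_bc_sp (R := M.B) κ D
  let E : Grp.mk (Red.bc τ H₁) ≅ Grp.mk (Red.bc si H₀) := e₁ ≪≫ spIso eD.symm ≪≫ eC₀
  let ei : Red.bc τ H₁ ≅ Red.bc si H₀ := ⟨E.hom.hom.hom, E.inv.hom.hom,
    congrArg (fun h => h.hom.hom) E.hom_inv_id, congrArg (fun h => h.hom.hom) E.inv_hom_id⟩
  haveI : IsMonHom ei.hom := E.hom.hom.isMonHom_hom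
  obtain ⟨k₁, _, hk₁⟩ := exists_bc_comp si fs rfl G
  obtain ⟨k₂, _, hk₂⟩ := exists_bc_comp τ f₁ hτ G
  let u₀ : Red.bc τ H₁ ⟶ Red.bc τ G₁ := ei.hom ≫ (Over.pullback si).map i₀ ≫ k₁.hom ≫ k₂.inv
  haveI : IsMonHom u₀ := inferInstanceAs (IsMonHom (ei.hom ≫ (Over.pullback si).map i₀ ≫ k₁.hom ≫ k₂.inv))
  haveI : Mono u₀ := inferInstanceAs (Mono (ei.hom ≫ (Over.pullback si).map i₀ ≫ k₁.hom ≫ k₂.inv))
  obtain ⟨φ₀, hφ₀, hu₀⟩ := RedRank.exists_family τ u₀
  obtain ⟨X, υ, hX, hXs, -⟩ := Groth.Agent.S5246.result H₁ G₁ hH₁ ‹_› ‹_›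
  obtain ⟨a₀, ha₀, -⟩ := hX.2 _ φ₀ hφ₀
  haveI := hXs
  have haX : a₀.left ≫ X.hom = τ := (Over.w a₀).trans (Category.id_comp τ)
  obtain ⟨r, h, hh, hb⟩ := exists_section_ref p.asIdeal M X a₀.left haX
  let b : Spec (CommRingCat.of κ) ⟶ Spec (CommRingCat.of r.B) :=
    Spec.map (CommRingCat.ofHom (show r.B →+* κ from r.M.toK.toRingHom))
  let q := specAlg M.B r.B
  have hbq : b ≫ q = τ := by
    show b ≫ specAlg M.B r.B = τ
    rw [← hh, ← Category.assoc]; exact (congrArg (· ≫ X.hom) hb).trans haX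
  have hqf : q ≫ f₁ = specAlg A r.B ≫ j := by
    rw [← Category.assoc, ← Spec.map_comp, ← CommRingCat.ofHom_comp, ← IsScalarTower.algebraMap_eq]
  let hX' : Over.mk q ⟶ X := Over.homMk h hh
  let φr : H₁ ⊗ Over.mk q ⟶ G₁ := (H₁ ◁ hX') ≫ υ
  obtain ⟨uh, _, huh⟩ := RedRank.exists_hom q
    ((H₁ ◁ (Over.homMk (𝟙 _) : (Over.map q).obj (𝟙_ _) ⟶ Over.mk q)) ≫ φr)
    (HomRepLib.isHomFamily_comp (HomRepLib.isHomFamily_comp hX.1 hX') _)
  let a₁ : (Over.map τ).obj (𝟙_ (Over (Spec (CommRingCat.of κ)))) ⟶ Over.mk q :=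
    Over.homMk b (hbq.trans (Category.id_comp τ).symm)
  have hu₀' : ∀ (Z : Over (Spec (CommRingCat.of κ))) (z : Z ⟶ Red.bc τ H₁), DSPtsLib.theta τ (z ≫ u₀) =
      lift (DSPtsLib.theta τ z) ((Over.map τ).map (toUnit Z)) ≫ (H₁ ◁ a₁) ≫ φr := fun Z z => by
    rw [hu₀, ← ha₀, ← MonoidalCategory.whiskerLeft_comp_assoc]
    congr 3
    exact Over.OverMorphism.ext hb.symm
  have hinj : HomMonoLocus.Inj uh b := inj_of_restrict b φr uh huh u₀ a₁ rfl hu₀'
  haveI : IsAffineHom (Red.bc q G₁).hom := inferInstanceAs (IsAffineHom (pullback.snd G₁.hom q))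
  have hH₂ : SGA3x.IsMultTypeFT (Red.bc q H₁) := MultTypeBC.isMultTypeFT_bc q hH₁
  obtain ⟨U, hU, hUinj⟩ := HomMonoLocus.main (u := uh) hH₂
  have hmem : b (closedPoint κ) ∈ U := by
    refine (hU _).mpr (HomMonoLocus.Inj.of_covers (hl := HomUnitLocus.covers_field _)
      (l := Spec.map ((Spec (CommRingCat.of r.B)).descResidueField (Scheme.stalkClosedPointTo b))) ?_)
    rw [Scheme.descResidueField_stalkClosedPointTo_fromSpecResidueField κ _ b]
    exact hinj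
  have hr : Set.range b ⊆ Set.range U.ι := by
    rintro _ ⟨z, rfl⟩
    rw [Scheme.Opens.range_ι, Subsingleton.elim z (closedPoint κ)]
    exact hmem
  let l : Spec (CommRingCat.of κ) ⟶ (U : Scheme.{u}) := IsOpenImmersion.lift U.ι b hr
  have hl : l ≫ U.ι = b := IsOpenImmersion.lift_fac _ _ _
  let e : (U : Scheme.{u}) ⟶ S := U.ι ≫ specAlg A r.B ≫ j
  let σ : Spec (S.residueField (j p)) ⟶ (U : Scheme.{u}) := inv si ≫ l
  haveI : Etale (specAlg A r.B) :=
    (HasRingHomProperty.Spec_iff (P := @Etale)).mpr (RingHom.etale_algebraMap.mpr inferInstance)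
  have hσe : σ ≫ e = fs := by
    rw [Category.assoc, reassoc_of% hl, IsIso.inv_comp_eq]
    show _ = si ≫ fs
    rw [← hτ, ← hbq, Category.assoc, hqf]
  obtain ⟨k₃, _, hk₃⟩ := exists_bc_comp U.ι q rfl G₁
  obtain ⟨k₄, _, hk₄⟩ := exists_bc_comp (U.ι ≫ q) f₁ (e := e) (by rw [Category.assoc, hqf]) G
  let H' := Red.bc U.ι (Red.bc q H₁)
  let i' : H' ⟶ Red.bc e G := (Over.pullback U.ι).map uh ≫ k₃.hom ≫ k₄.hom
  haveI : Mono ((Over.pullback U.ι).map uh) := by
    haveI := HomMonoLocus.mono_of_inj hUinj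
    exact Over.mono_of_mono_left _
  obtain ⟨c₁, _, hc₁⟩ := exists_bc_comp l U.ι hl (Red.bc q H₁)
  obtain ⟨c₂, _, hc₂⟩ := exists_bc_comp b q hbq H₁
  obtain ⟨c₀, _, hc₀⟩ := exists_bc_comp (inv si) l (e := σ) rfl H'
  have ht : pullback.fst H₁.hom τ ≫ H₁.hom = (pullback.snd H₁.hom τ ≫ b) ≫ q := by
    rw [Category.assoc, hbq, pullback.condition]
  have hi' : i'.left ≫ pullback.fst G.hom e =
      pullback.fst (Red.bc q H₁).hom U.ι ≫ uh.left ≫ pullback.fst G₁.hom q ≫ pullback.fst G.hom f₁ := by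
    have hmap : ((Over.pullback U.ι).map uh).left ≫ pullback.fst (Red.bc q G₁).hom U.ι =
        pullback.fst (Red.bc q H₁).hom U.ι ≫ uh.left := pullback.lift_fst _ _ _
    show (((Over.pullback U.ι).map uh).left ≫ k₃.hom.left ≫ k₄.hom.left) ≫ _ = _
    rw [Category.assoc, Category.assoc, hk₄, reassoc_of% hk₃, reassoc_of% hmap]
  have hk : u₀.left ≫ pullback.fst G₁.hom τ ≫ pullback.fst G.hom f₁ =
      ei.hom.left ≫ pullback.fst H₀.hom si ≫ i₀.left ≫ pullback.fst G.hom fs := by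
    have hk₂' : k₂.inv.left ≫ pullback.fst G₁.hom τ ≫ pullback.fst G.hom f₁ = pullback.fst G.hom (si ≫ fs) := by
      rw [← hk₂, ← Over.comp_left_assoc, k₂.inv_hom_id, Over.id_left]
      exact Category.id_comp _
    have hmap : ((Over.pullback si).map i₀).left ≫ pullback.fst (Red.bc fs G).hom si =
        pullback.fst H₀.hom si ≫ i₀.left := pullback.lift_fst _ _ _
    show (ei.hom.left ≫ ((Over.pullback si).map i₀).left ≫ k₁.hom.left ≫ k₂.inv.left) ≫ _ ≫ _ = _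
    rw [Category.assoc, Category.assoc, Category.assoc, hk₂', hk₁, reassoc_of% hmap]
  obtain ⟨φ, hφ₁, hφ₂⟩ := exists_iso_compat i₀ hbq ei u₀ uh i' c₁ hc₁ c₂ hc₂ c₀ hc₀ hi' hk ht
    (restrict_fst b φr uh huh u₀ a₁ rfl hu₀' ht)
  exact ⟨U, e, σ, inferInstanceAs (Etale (U.ι ≫ specAlg A r.B ≫ j)), hσe, H', inferInstance, i',
    inferInstanceAs (IsMonHom ((Over.pullback U.ι).map uh ≫ k₃.hom ≫ k₄.hom)),
    inferInstanceAs (Mono ((Over.pullback U.ι).map uh ≫ k₃.hom ≫ k₄.hom)),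
    MultTypeBC.isMultTypeFT_bc _ hH₂, φ, hφ₁, hφ₂⟩

end Groth.Agent.HenselHom
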