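import Groth.Agent.S5246
import Groth.Agent.S5247
import Groth.Agent.RedRank.Family
import Groth.Agent.GrpSchLib.RankOneBase
import Groth.Agent.GrpSchLib.MultTypeBC
import Groth.Agent.SolvGrp.BC
import Groth.Agent.HensSec7.Smooth
import Groth.Agent.TorusQI.Geom
import Groth.Agent.FixTorus.TorusSmooth
import Groth.Agent.HomRepLib.ApplyFpqc

/-!
# Homomorphisms out of groups of multiplicative type over a henselian local ring
-/

universe u

open CategoryTheory CategoryTheory.Limits MonoidalCategory CartesianMonoidalCategory MonObj AlgebraicGeometry IsLocalRing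

set_option backward.isDefEq.respectTransparency false
set_option backward.isDefEq.respectTransparency.types false
set_option synthInstance.maxHeartbeats 80000
set_option linter.style.haveILetI false

noncomputable section

namespace Groth.Agent.HenselHom

open DSPtsLib GrpSchLib

variable {O : Type u} [CommRing O] [HenselianLocalRing O]

local notation "cpt" => Spec.map (CommRingCat.ofHom (IsLocalRing.residue O))

variable {H G : Over (Spec (CommRingCat.of O))} [GrpObj H] [GrpObj G]

/-- An open set containing the closed point is everything. -/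
theorem eq_top_of_closedPoint_mem (U : (Spec (CommRingCat.of O)).Opens) (h : closedPoint O ∈ U) : U = ⊤ :=
  top_le_iff.1 fun s _ => (IsLocalRing.specializes_closedPoint s).mem_open U.2 h

theorem closedPoint_image : (cpt) (closedPoint (ResidueField O)) = closedPoint O :=
  IsLocalRing.comap_closedPoint (IsLocalRing.residue O)

/-- Homomorphisms of the closed fibres lift. -/
theorem exists_hom_lift [Smooth G.hom] [IsAffineHom G.hom] (hH : SGA3x.IsMultTypeFT H)
    (u₀ : Red.bc (cpt) H ⟶ Red.bc (cpt) G) [IsMonHom u₀] :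
    ∃ u : H ⟶ G, IsMonHom u ∧ (Over.pullback (cpt)).map u = u₀ := by
  obtain ⟨φ₀, hφ₀, hu₀⟩ := RedRank.exists_family (cpt) u₀
  obtain ⟨A, υ, hA, hAs, -⟩ := Groth.Agent.S5246.result H G hH ‹_› ‹_›
  obtain ⟨a₀, ha₀, -⟩ := hA.2 _ φ₀ hφ₀
  haveI := hAs
  obtain ⟨s, hs, hs₀⟩ := HensSec7.exists_section_smooth A.hom a₀.left ((Over.w a₀).trans (Category.id_comp _))
  let sA : 𝟙_ (Over (Spec (CommRingCat.of O))) ⟶ A := Over.homMk s hs
  refine ⟨lift (𝟙 H) (toUnit H) ≫ (H ◁ sA) ≫ υ, ?_, ?_⟩
  · have key : ∀ (X : Over (Spec (CommRingCat.of O))) (g : X ⟶ H),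
        g ≫ lift (𝟙 H) (toUnit H) ≫ (H ◁ sA) ≫ υ = lift g (toUnit X) ≫ (H ◁ sA) ≫ υ := fun X g => by
      rw [comp_lift_assoc, Category.comp_id, toUnit_unique (g ≫ toUnit H) (toUnit X)]
    exact AGFLib.isMonHom_of_mul _ fun X g g' => by
      rw [key, key, key]
      exact HomRepLib.isHomFamily_comp hA.1 sA X g g' (toUnit X)
  · refine (cancel_epi (𝟙 _)).mp ((theta_bijective (cpt)).1 ?_)
    rw [HomUnitLocus.theta_comp_map, hu₀, ← ha₀, comp_lift_assoc, Category.comp_id,
      lift_whiskerLeft_assoc, lift_whiskerLeft_assoc]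
    congr 2
    refine Over.OverMorphism.ext ?_
    show ((theta (cpt) (𝟙 (Red.bc (cpt) H))).left ≫ (toUnit H).left) ≫ s =
      (toUnit (Red.bc (cpt) H)).left ≫ a₀.left
    rw [← hs₀, ← Category.assoc]
    congr 1
    exact (congrArg ((theta (cpt) (𝟙 (Red.bc (cpt) H))).left ≫ ·)
      ((Category.comp_id _).symm.trans (Over.w (toUnit H)))).trans ((Over.w _).trans (congrArg (· ≫ (cpt))
      ((Category.comp_id _).symm.trans (Over.w (toUnit (Red.bc (cpt) H)))).symm))

/-- A homomorphism which is the unit on the closed fibre is the unit. -/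
theorem eq_one_of_fibre [LocallyOfFiniteType G.hom] [IsSeparated G.hom] (hH : SGA3x.IsMultTypeFT H)
    (u : H ⟶ G) [IsMonHom u] (h : (Over.pullback (cpt)).map u = 1) : u = 1 := by
  obtain ⟨U, -, hU, hUt⟩ := HomUnitLocus.main (u := u) hH (Or.inr ‹_›)
  have hmem : closedPoint O ∈ U := by
    rw [← closedPoint_image]
    exact (hU _).mpr ((HomUnitLocus.triv_iff_of_field _).mp (HomUnitLocus.triv_of_map_eq_one h))
  obtain rfl := eq_top_of_closedPoint_mem U hmem
  haveI : IsIso (⊤ : (Spec (CommRingCat.of O)).Opens).ι := (Scheme.topIso _).isIso_hom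
  have ht := hUt.comp (inv (⊤ : (Spec (CommRingCat.of O)).Opens).ι)
  rw [IsIso.inv_hom_id] at ht
  exact (Category.id_comp u).symm.trans (ht H (Over.homMk H.hom (Category.comp_id _)) (𝟙 H))

theorem mul_inv_mul_of_commute {M : Type*} [Group M] (a b a' b' : M) (h : ∀ x : M, Commute x b) :
    a * a' * (b * b')⁻¹ = a * b⁻¹ * (a' * b'⁻¹) := by
  rw [_root_.mul_inv_rev, _root_.mul_assoc, _root_.mul_assoc, ← _root_.mul_assoc a' b'⁻¹,
    ((h (a' * b'⁻¹)).inv_right).eq]

theorem map_inv_eq {S T : Scheme.{u}} (f : S ⟶ T) {X Y : Over T} [GrpObj Y] (a : X ⟶ Y) :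
    (Over.pullback f).map a⁻¹ = ((Over.pullback f).map a)⁻¹ :=
  eq_inv_iff_mul_eq_one.mpr (by rw [← Functor.map_mul, inv_mul_cancel, Functor.map_one])

/-- Commuting homomorphisms which agree on the closed fibre are equal. -/
theorem eq_of_fibre_eq [LocallyOfFiniteType G.hom] [IsSeparated G.hom] (hH : SGA3x.IsMultTypeFT H)
    (a b : H ⟶ G) [IsMonHom a] [IsMonHom b]
    (hab : ∀ (X : Over (Spec (CommRingCat.of O))) (p : X ⟶ G) (y : X ⟶ H), Commute p (y ≫ b))
    (h : (Over.pullback (cpt)).map a = (Over.pullback (cpt)).map b) : a = b := by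
  haveI : IsMonHom (a * b⁻¹) := AGFLib.isMonHom_of_mul _ fun X g g' => by
    rw [MonObj.comp_mul, MonObj.comp_mul, MonObj.comp_mul, GrpObj.comp_inv, GrpObj.comp_inv, GrpObj.comp_inv,
      MonObj.mul_comp g g' a, MonObj.mul_comp g g' b]
    exact mul_inv_mul_of_commute _ _ _ _ fun x => hab X x g
  exact mul_inv_eq_one.mp (eq_one_of_fibre hH (a * b⁻¹)
    (by rw [Functor.map_mul, map_inv_eq, h, mul_inv_cancel]))

/-- A homomorphism which is a monomorphism on the closed fibre is a monomorphism. -/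
theorem mono_of_fibre_mono [IsSeparated G.hom] (hH : SGA3x.IsMultTypeFT H) (u : H ⟶ G) [IsMonHom u]
    [Mono ((Over.pullback (cpt)).map u)] : Mono u := by
  obtain ⟨U, hU, hUi⟩ := HomMonoLocus.main (u := u) hH
  have hinj : HomMonoLocus.Inj u (cpt) := HomMonoLocus.inj_of_mono inferInstance
  have hmem : closedPoint O ∈ U := by
    rw [← closedPoint_image]
    refine (hU _).mpr (HomMonoLocus.Inj.of_covers (hl := HomUnitLocus.covers_field _)
      (l := Spec.map ((Spec (CommRingCat.of O)).descResidueField (Scheme.stalkClosedPointTo (cpt)))) ?_)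
    rw [Scheme.descResidueField_stalkClosedPointTo_fromSpecResidueField]
    exact hinj
  obtain rfl := eq_top_of_closedPoint_mem U hmem
  haveI : IsIso (⊤ : (Spec (CommRingCat.of O)).Opens).ι := (Scheme.topIso _).isIso_hom
  have ht := hUi.comp (inv (⊤ : (Spec (CommRingCat.of O)).Opens).ι)
  rw [IsIso.inv_hom_id] at ht
  refine ⟨fun {X} g g' hgg => mul_inv_eq_one.mp (ht X (Over.homMk X.hom (Category.comp_id _)) _ ?_)⟩
  rw [MonObj.mul_comp, GrpObj.inv_comp, hgg, mul_inv_cancel]

/-- A homomorphism of tori which is an isomorphism on the closed fibre is an isomorphism. -/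
theorem isIso_of_fibre_isIso {T T' : Over (Spec (CommRingCat.of O))} [GrpObj T] [GrpObj T']
    [Smooth T.hom] [IsAffineHom T.hom] [Smooth T'.hom] [IsAffineHom T'.hom] (hT : Red.IsTorus T)
    (hT' : Red.IsTorus T') (f : T ⟶ T') [IsMonHom f] [IsIso ((Over.pullback (cpt)).map f)] : IsIso f := by
  let F := (Over.pullback (cpt)).map f
  haveI : IsMonHom F := inferInstanceAs (IsMonHom ((Over.pullback (cpt)).map f))
  haveI : IsMonHom (inv F) := by
    haveI : IsMonHom (asIso F).hom := ‹IsMonHom F›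
    exact inferInstanceAs (IsMonHom (asIso F).inv)
  obtain ⟨g, _, hg⟩ := exists_hom_lift (TorusQI.isMultTypeFT_of_isTorus hT') (inv F)
  refine ⟨g, eq_of_fibre_eq (TorusQI.isMultTypeFT_of_isTorus hT) _ _
      (fun X x y => RankOne.torus_mul_comm hT X _ _) ?_,
    eq_of_fibre_eq (TorusQI.isMultTypeFT_of_isTorus hT') _ _ (fun X x y => RankOne.torus_mul_comm hT' X _ _) ?_⟩
  · rw [Functor.map_comp, hg, CategoryTheory.Functor.map_id]
    exact IsIso.hom_inv_id F
  · rw [Functor.map_comp, hg, CategoryTheory.Functor.map_id]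
    exact IsIso.inv_hom_id F

end Groth.Agent.HenselHom
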