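import Groth.Agent.HenselHom.StageEtale
import Groth.Agent.HenselHom.Clopen
import Groth.Agent.Hensel.HenselizationDescent
import Groth.Agent.MultTypeLib.HopfModel
import Groth.Agent.MultTypeLib.FlatStage
import Groth.Agent.Synt29.RelFlatTake
import Groth.Agent.SpreadIso.Basic

/-!
# An open and closed isotrivial subgroup over an étale neighbourhood
-/

universe u

open TensorProduct IsLocalRing
open Groth.Agent.MultTypeLib (baseChangeTrans mA congrBase)
open Groth.Agent.Hensel (Nbhd Henz)

noncomputable section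

namespace Groth.Agent.HenselHom

set_option maxHeartbeats 1000000 in
/-- Over a Noetherian base. -/
theorem exists_nbhd_noetherian {A : Type u} [CommRing A] [IsNoetherianRing A] {C : Type u} [CommRing C]
    [HopfAlgebra A C] [Algebra.FiniteType A C] (p : Ideal A) [p.IsPrime]
    (hlev : ∀ (Q : Type u) [CommRing Q] [Algebra A Q], (∃ k : ℕ, ∀ r ∈ p ^ k, algebraMap A Q r = 0) →
      Module.Flat Q (Q ⊗[A] C))
    (hs : SGA3b.IsMultType p.ResidueField (p.ResidueField ⊗[A] C)) :
    ∃ (M : Nbhd A p.ResidueField) (o : OpenClosed A C M.B),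
      SGA3b.IsIsotrivial M.B o.D ∧ mA C M.toK o.x = 0 := by
  have : Algebra.FinitePresentation A C := Algebra.FinitePresentation.of_finiteType.mp inferInstance
  let W := Henz A p.ResidueField
  have : IsNoetherianRing W := by
    let Ap := Localization.AtPrime p
    let Rh := Groth.Agent.Hensel.LocalHenz Ap
    let _ : Algebra A Rh := ((algebraMap Ap Rh).comp (algebraMap A Ap)).toAlgebra
    have : IsScalarTower A Ap Rh := IsScalarTower.of_algebraMap_eq fun _ => rfl
    have : IsNoetherianRing Ap := IsLocalization.isNoetherianRing p.primeCompl Ap inferInstance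
    have : IsNoetherianRing Rh := Groth.Agent.Hensel.isNoetherianRing_henz
    obtain ⟨e, -⟩ := Groth.Agent.Hensel.exists_algEquiv_henz_residueField A p Rh
    exact isNoetherianRing_of_ringEquiv Rh e.symm.toRingEquiv
  have hcomap : (maximalIdeal W).comap (algebraMap A W) = p :=
    Groth.Agent.Hensel.comap_maximalIdeal_henz_residueField A p
  have hlevW : ∀ k : ℕ, Module.Flat (W ⧸ maximalIdeal W ^ (k + 1))
      ((W ⧸ maximalIdeal W ^ (k + 1)) ⊗[W] (W ⊗[A] C)) := by
    intro k
    have := hlev (W ⧸ maximalIdeal W ^ (k + 1)) ⟨k + 1, fun r hr => by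
      rw [IsScalarTower.algebraMap_apply A W]
      refine Ideal.Quotient.eq_zero_iff_mem.mpr ?_
      exact Ideal.le_comap_pow (algebraMap A W) (k + 1) (Ideal.pow_right_mono hcomap.ge (k + 1) hr)⟩
    exact Module.Flat.of_linearEquiv (AlgebraTensorModule.cancelBaseChange A W _ (W ⧸ maximalIdeal W ^ (k + 1)) C)
  have hsW : SGA3b.IsMultType (ResidueField W) (ResidueField W ⊗[W] (W ⊗[A] C)) := by
    let ι : p.ResidueField →+* ResidueField W :=
      Ideal.ResidueField.lift p ((residue W).comp (algebraMap A W))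
        (fun r hr => (residue_eq_zero_iff _).mpr (show r ∈ (maximalIdeal W).comap (algebraMap A W) from hcomap.ge hr))
        fun r hr => (IsLocalRing.residue W).isUnit_map (by
          by_contra h
          exact hr (hcomap.le (show r ∈ (maximalIdeal W).comap (algebraMap A W) from h)))
    let _ : Algebra p.ResidueField (ResidueField W) := ι.toAlgebra
    have : IsScalarTower A p.ResidueField (ResidueField W) := IsScalarTower.of_algebraMap_eq fun r =>
      (Ideal.ResidueField.lift_algebraMap p _ _ _ r).symm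
    exact Groth.Agent.MultTypeLib.isMultType_congr (baseChangeTrans (R := A) W (ResidueField W) C)
      (Groth.Agent.MultTypeLib.isMultType_fibre_ext p.ResidueField (ResidueField W) hs)
  obtain ⟨e, B, _, _, φ, he, hem, hφs, hker, hB⟩ := exists_clopen hlevW hsW
  obtain ⟨N, x, hxi, hxH, hxe⟩ := exists_stage_idem φ hker hφs he
  obtain ⟨M, o, hI, ho⟩ := exists_isotrivial_stage N (OpenClosed.ofIdem x hxi)
    { D := B, π := φ, surj := hφs, x := e, idem := he, ker := hker } hxe hB
  refine ⟨M, o, hI, ho.trans ?_⟩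
  have hcomp : ∀ z : N.B ⊗[A] C, mA C N.toK z = mA C (Henz.proj A p.ResidueField) (mA C (Henz.ofB N) z) := by
    intro z
    induction z using TensorProduct.induction_on with
    | zero => simp
    | add a b ha hb => simp only [map_add, ha, hb]
    | tmul a b => simp
  show mA C N.toK x = 0
  rw [hcomp, hxe, ← RingHom.mem_ker]
  refine (Ideal.map_le_iff_le_comap.mpr fun w hw => ?_ : Ideal.map (algebraMap W (W ⊗[A] C)) (maximalIdeal W) ≤
    RingHom.ker (mA C (Henz.proj A p.ResidueField))) hem
  rw [Ideal.mem_comap, RingHom.mem_ker, Algebra.TensorProduct.algebraMap_apply, Algebra.TensorProduct.map_tmul]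
  rw [Groth.Agent.Hensel.maximalIdeal_henz_residueField, RingHom.mem_ker] at hw
  simp [hw]

section Transport

variable {A : Type u} [CommRing A] {C : Type u} [CommRing C] [HopfAlgebra A C]
variable {G : Type u} [CommRing G] [Algebra G A] {X : Type u} [CommRing X] [HopfAlgebra G X]
variable (eC : A ⊗[G] X ≃ₐc[A] C)
variable (R : Type u) [CommRing R] [Algebra G R]
variable (V : Type u) [CommRing V] [Algebra G V] [Algebra A V] [Algebra R V] [IsScalarTower G A V]
  [IsScalarTower G R V]

/-- Comparison of the base changes of a group and of its model. -/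
def modelEquiv : V ⊗[A] C ≃ₐc[V] V ⊗[R] (R ⊗[G] X) :=
  (congrBase V eC.symm).trans ((baseChangeTrans (R := G) A V X).symm.trans (baseChangeTrans (R := G) R V X))

theorem modelEquiv_symm_tmul (v : V) (r : R) (x : X) :
    (modelEquiv eC R V).symm (v ⊗ₜ (r ⊗ₜ x)) = (r • v) ⊗ₜ[A] eC (1 ⊗ₜ x) := by
  rw [show (v ⊗ₜ[R] (r ⊗ₜ[G] x) : V ⊗[R] (R ⊗[G] X)) = (r • v) • ((1 : V) ⊗ₜ[R] ((1 : R) ⊗ₜ[G] x)) by
      rw [TensorProduct.smul_tmul', smul_eq_mul, mul_one, TensorProduct.smul_tmul, TensorProduct.smul_tmul',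
        smul_eq_mul, mul_one],
    show ((r • v) ⊗ₜ[A] eC (1 ⊗ₜ x) : V ⊗[A] C) = (r • v) • ((1 : V) ⊗ₜ[A] eC (1 ⊗ₜ x)) by
      rw [TensorProduct.smul_tmul', smul_eq_mul, mul_one], map_smul]
  congr 1
  refine EquivLike.injective (modelEquiv eC R V) ?_
  rw [BialgEquiv.apply_symm_apply]
  have hc : congrBase V eC.symm ((1 : V) ⊗ₜ[A] eC (1 ⊗ₜ x)) = (1 : V) ⊗ₜ[A] ((1 : A) ⊗ₜ[G] x) :=
    congrArg ((1 : V) ⊗ₜ[A] ·) (BialgEquiv.symm_apply_apply eC _)
  show _ = baseChangeTrans (R := G) R V X ((baseChangeTrans (R := G) A V X).symm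
    (congrBase V eC.symm ((1 : V) ⊗ₜ[A] eC (1 ⊗ₜ x))))
  have hb : (baseChangeTrans (R := G) A V X).symm ((1 : V) ⊗ₜ[A] ((1 : A) ⊗ₜ[G] x)) = (1 : V) ⊗ₜ[G] x := by
    refine EquivLike.injective (baseChangeTrans (R := G) A V X) ?_
    rw [BialgEquiv.apply_symm_apply, Groth.Agent.MultTypeLib.baseChangeTrans_one_tmul]
  rw [hc, hb, Groth.Agent.MultTypeLib.baseChangeTrans_one_tmul]

variable {S : Type u} [CommRing S] [Algebra R S]

/-- Transport of an open and closed subgroup of the model. -/
def OpenClosed.transport [Algebra S V] [IsScalarTower R S V] (o : OpenClosed R (R ⊗[G] X) S) : OpenClosed A C V where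
  D := (o.push V).D
  π := (o.push V).π.comp (modelEquiv eC R V : V ⊗[A] C →ₐc[V] V ⊗[R] (R ⊗[G] X))
  surj := fun y => by
    obtain ⟨z, rfl⟩ := (o.push V).surj y
    exact ⟨(modelEquiv eC R V).symm z, congrArg (o.push V).π (BialgEquiv.apply_symm_apply _ z)⟩
  x := (modelEquiv eC R V).symm (o.push V).x
  idem := (o.push V).idem.map ((modelEquiv eC R V).symm : V ⊗[R] (R ⊗[G] X) ≃ₐ[V] V ⊗[A] C)
  ker y := by
    show (o.push V).π (modelEquiv eC R V y) = 0 ↔ _
    rw [(o.push V).ker, Ideal.mem_span_singleton, Ideal.mem_span_singleton]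
    conv_lhs => rw [← BialgEquiv.apply_symm_apply (modelEquiv eC R V) (o.push V).x]
    exact map_dvd_iff (modelEquiv eC R V : V ⊗[A] C ≃ₐ[V] V ⊗[R] (R ⊗[G] X))

theorem OpenClosed.transport_x_eq_zero [Algebra S V] [IsScalarTower R S V] (o : OpenClosed R (R ⊗[G] X) S)
    {K : Type u} [CommRing K] [Algebra A K] [Algebra R K] (τ : V →ₐ[A] K) (τ' : S →ₐ[R] K)
    (hτ : ∀ s, τ (algebraMap S V s) = τ' s) [Algebra G K] [IsScalarTower G A K] [IsScalarTower G R K]
    (h : mA (R ⊗[G] X) τ' o.x = 0) : mA C τ (o.transport eC R V).x = 0 := by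
  have key : ∀ z : S ⊗[R] (R ⊗[G] X),
      mA C τ ((modelEquiv eC R V).symm (mA (R ⊗[G] X) (IsScalarTower.toAlgHom R S V) z)) =
        (modelEquiv eC R K).symm (mA (R ⊗[G] X) τ' z) := by
    intro z
    induction z using TensorProduct.induction_on with
    | zero => simp
    | add a b ha hb => simp only [map_add, ha, hb]
    | tmul s y =>
      induction y using TensorProduct.induction_on with
      | zero => simp
      | add a b ha hb => simp only [TensorProduct.tmul_add, map_add, ha, hb]
      | tmul r x =>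
        simp only [Algebra.TensorProduct.map_tmul, AlgHom.id_apply, IsScalarTower.coe_toAlgHom',
          modelEquiv_symm_tmul]
        congr 1
        rw [← map_smul τ', ← hτ]
        congr 1
        rw [Algebra.smul_def, Algebra.smul_def, map_mul, ← IsScalarTower.algebraMap_apply]
  show mA C τ ((modelEquiv eC R V).symm (mA (R ⊗[G] X) (IsScalarTower.toAlgHom R S V) o.x)) = 0
  rw [key, h, map_zero]

include eC in
omit [IsScalarTower G R V] [IsScalarTower G A V] [Algebra G V] [Algebra A V] [Algebra R V] in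
/-- Multiplicative type of a fibre of the model. -/
theorem isMultType_model_fibre [Algebra.FiniteType G X] {K : Type u} [Field K] [Algebra G K] [Algebra A K]
    [Algebra R K] [IsScalarTower G A K] [IsScalarTower G R K] {k : Type u} [Field k] [Algebra R k] (ι : k →ₐ[R] K)
    (hs : SGA3b.IsMultType K (K ⊗[A] C)) : SGA3b.IsMultType k (k ⊗[R] (R ⊗[G] X)) := by
  let _ : Algebra k K := ι.toRingHom.toAlgebra
  have : IsScalarTower R k K := IsScalarTower.of_algebraMap_eq fun r => (ι.commutes r).symm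
  have h1 : SGA3b.IsMultType K (K ⊗[k] (k ⊗[R] (R ⊗[G] X))) :=
    Groth.Agent.MultTypeLib.isMultType_congr ((modelEquiv eC R K).trans
      (baseChangeTrans (R := R) k K (R ⊗[G] X))) hs
  obtain ⟨E, _, _, -, -, hff, hd⟩ :=
    Groth.Agent.MultTypeLib.isIsotrivial_of_field_ext k K (k ⊗[R] (R ⊗[G] X)) inferInstance h1
  exact Groth.Agent.MultTypeLib.isMultType_of_ff E hd

include eC in
omit [IsScalarTower G R V] [IsScalarTower G A V] [Algebra G V] [Algebra A V] [Algebra R V] in
/-- From a neighbourhood of the model to a neighbourhood. -/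
theorem exists_of_model {K : Type u} [Field K] [Algebra G K] [Algebra A K] [Algebra R K] [IsScalarTower G A K]
    [IsScalarTower G R K] {Ag : Type u} [CommRing Ag] [Algebra G Ag] [Algebra A Ag] [Algebra R Ag]
    [IsScalarTower G A Ag] [IsScalarTower G R Ag] [Algebra.Etale A Ag] (gK : Ag →ₐ[A] K)
    (hg : ∀ r : R, gK (algebraMap R Ag r) = algebraMap R K r)
    {S : Type u} [CommRing S] [Algebra R S] [Algebra.Etale R S] (τ' : S →ₐ[R] K)
    (o : OpenClosed R (R ⊗[G] X) S) (hI : SGA3b.IsIsotrivial S o.D) (ho : mA (R ⊗[G] X) τ' o.x = 0) :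
    ∃ (V : Type u) (_ : CommRing V) (_ : Algebra A V) (_ : Algebra.Etale A V) (τ : V →ₐ[A] K)
      (o : OpenClosed A C V), SGA3b.IsIsotrivial V o.D ∧ mA C τ o.x = 0 := by
  let W := Ag ⊗[R] S
  let _ : Algebra S W := Algebra.TensorProduct.rightAlgebra
  have : IsScalarTower R S W := Algebra.TensorProduct.right_isScalarTower
  have : IsScalarTower G Ag W := inferInstance
  have : IsScalarTower G A W := IsScalarTower.of_algebraMap_eq fun r => by
    rw [IsScalarTower.algebraMap_apply A Ag W, ← IsScalarTower.algebraMap_apply G A Ag]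
    rfl
  have : IsScalarTower G R W := IsScalarTower.of_algebraMap_eq fun r => by
    rw [IsScalarTower.algebraMap_apply R Ag W, ← IsScalarTower.algebraMap_apply G R Ag]
    rfl
  have : Algebra.Etale A W := Algebra.Etale.comp A Ag W
  let _ : Algebra Ag K := gK.toRingHom.toAlgebra
  have : IsScalarTower A Ag K := IsScalarTower.of_algebraMap_eq fun a => (gK.commutes a).symm
  have : IsScalarTower R Ag K := IsScalarTower.of_algebraMap_eq fun r => (hg r).symm
  let τW : W →ₐ[Ag] K := Algebra.TensorProduct.lift (Algebra.ofId Ag K) τ' fun _ _ => .all _ _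
  refine ⟨W, inferInstance, inferInstance, inferInstance, τW.restrictScalars A, o.transport eC R W,
    OpenClosed.push_isotrivial o W hI, OpenClosed.transport_x_eq_zero eC R W o _ τ' (fun s => ?_) ho⟩
  show τW ((1 : Ag) ⊗ₜ[R] s) = τ' s
  rw [Algebra.TensorProduct.lift_tmul, map_one, one_mul]

include eC in
omit [IsScalarTower G R V] [IsScalarTower G A V] [Algebra G V] [Algebra A V] [Algebra R V] in
/-- From a Noetherian stage with flat levels to a neighbourhood. -/
theorem exists_nbhd_of_stage [IsNoetherianRing R] [Algebra.FiniteType G X] (m : Ideal R) [m.IsPrime]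
    (hlev : ∀ (Q : Type u) [CommRing Q] [Algebra R Q], (∃ k : ℕ, ∀ r ∈ m ^ k, algebraMap R Q r = 0) →
      Module.Flat Q (Q ⊗[R] (R ⊗[G] X)))
    {K : Type u} [Field K] [Algebra G K] [Algebra A K] [Algebra R K] [IsScalarTower G A K] [IsScalarTower G R K]
    (hs : SGA3b.IsMultType K (K ⊗[A] C)) (ι : m.ResidueField →ₐ[R] K)
    {Ag : Type u} [CommRing Ag] [Algebra G Ag] [Algebra A Ag] [Algebra R Ag]
    [IsScalarTower G A Ag] [IsScalarTower G R Ag] [Algebra.Etale A Ag] (gK : Ag →ₐ[A] K)
    (hg : ∀ r : R, gK (algebraMap R Ag r) = algebraMap R K r) :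
    ∃ (V : Type u) (_ : CommRing V) (_ : Algebra A V) (_ : Algebra.Etale A V) (τ : V →ₐ[A] K)
      (o : OpenClosed A C V), SGA3b.IsIsotrivial V o.D ∧ mA C τ o.x = 0 := by
  obtain ⟨M, o, hI, ho⟩ := exists_nbhd_noetherian (A := R) (C := R ⊗[G] X) m hlev
    (isMultType_model_fibre eC R ι hs)
  refine exists_of_model eC R gK hg (ι.comp M.toK) o hI ?_
  have key : ∀ z : M.B ⊗[R] (R ⊗[G] X), mA (R ⊗[G] X) (ι.comp M.toK) z =
      mA (R ⊗[G] X) ι (mA (R ⊗[G] X) M.toK z) := by
    intro z
    induction z using TensorProduct.induction_on with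
    | zero => simp
    | add a b ha hb => simp only [map_add, ha, hb]
    | tmul a b => simp
  rw [key, ho, map_zero]

end Transport

set_option maxHeartbeats 1000000 in
/-- An open and closed isotrivial subgroup over an étale neighbourhood with trivial residue extension. -/
theorem exists_nbhd {A : Type u} [CommRing A] {C : Type u} [CommRing C] [HopfAlgebra A C]
    [Algebra.FinitePresentation A C] (p : Ideal A) [p.IsPrime]
    (hfl : ∀ (q : Ideal C) [q.IsPrime], q.comap (algebraMap A C) = p → Module.Flat A (Localization.AtPrime q))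
    (hs : SGA3b.IsMultType p.ResidueField (p.ResidueField ⊗[A] C)) :
    ∃ (V : Type u) (_ : CommRing V) (_ : Algebra A V) (_ : Algebra.Etale A V) (τ : V →ₐ[A] p.ResidueField)
      (o : OpenClosed A C V), SGA3b.IsIsotrivial V o.D ∧ mA C τ o.x = 0 := by
  obtain ⟨G, _, _, _, -, X, _, _, _, ⟨eC⟩⟩ := Groth.Agent.MultTypeLib.exists_hopf_model A C
  let Ap := Localization.AtPrime p
  have : IsScalarTower G A Ap := inferInstance
  obtain ⟨R₃, hR₃, hlev⟩ := Groth.Agent.MultTypeLib.exists_flat_stage (G := G) (X := X) (R := Ap) fun q _ hq => by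
    let ε : Ap ⊗[A] C ≃ₐc[Ap] Ap ⊗[G] X := (congrBase Ap eC.symm).trans (baseChangeTrans (R := G) A Ap X).symm
    let P : Ideal (Ap ⊗[A] C) := q.comap (ε : Ap ⊗[A] C ≃ₐ[Ap] Ap ⊗[G] X)
    have : P.IsPrime := Ideal.IsPrime.comap _
    let P₀ : Ideal C := P.comap (Algebra.TensorProduct.includeRight : C →ₐ[A] Ap ⊗[A] C)
    have : P₀.IsPrime := Ideal.IsPrime.comap _
    have hP₀ : P₀.comap (algebraMap A C) = p := by
      have hq' : q.comap (algebraMap Ap (Ap ⊗[G] X)) = maximalIdeal Ap :=
        ((maximalIdeal.isMaximal Ap).eq_of_le (Ideal.IsPrime.ne_top inferInstance)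
          (Ideal.map_le_iff_le_comap.mp hq)).symm
      refine Eq.trans (Ideal.ext fun a => ?_) (Localization.AtPrime.comap_maximalIdeal (I := p))
      rw [← hq']
      show ε ((1 : Ap) ⊗ₜ[A] algebraMap A C a) ∈ q ↔ algebraMap Ap (Ap ⊗[G] X) (algebraMap A Ap a) ∈ q
      rw [← (ε : Ap ⊗[A] C ≃ₐ[Ap] Ap ⊗[G] X).commutes]
      refine Iff.of_eq (congrArg (fun z => ε z ∈ q) ?_)
      rw [Algebra.algebraMap_eq_smul_one (A := C), TensorProduct.tmul_smul, Algebra.TensorProduct.algebraMap_apply,
        Algebra.algebraMap_self, RingHom.id_apply, TensorProduct.smul_tmul', ← Algebra.algebraMap_eq_smul_one]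
    exact Groth.Agent.Synt29.flat_atPrime_of_equiv A Ap C (Ap ⊗[G] X) (ε : Ap ⊗[A] C ≃ₐ[Ap] Ap ⊗[G] X) q P₀
      (fun _ => Iff.rfl) (hfl P₀ hP₀)
  have : Algebra.FiniteType G R₃ := (Subalgebra.fg_iff_finiteType R₃).1 hR₃
  have : IsNoetherianRing R₃ := Algebra.FiniteType.isNoetherianRing G R₃
  have : Algebra.FinitePresentation G R₃ := Algebra.FinitePresentation.of_finiteType.mp inferInstance
  obtain ⟨g, hg, ψ, hψ⟩ := Groth.Agent.SpreadIso.exists_lift (R := G) p (A := R₃) R₃.val
  let Ag := Localization.Away g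
  let m₃ : Ideal R₃ := (maximalIdeal Ap).comap R₃.val
  have : m₃.IsPrime := Ideal.IsPrime.comap _
  let κ := p.ResidueField
  have : IsScalarTower G A κ := inferInstance
  have : IsScalarTower G R₃ κ := IsScalarTower.of_algebraMap_eq fun r => by
    rw [IsScalarTower.algebraMap_apply G A κ, IsScalarTower.algebraMap_apply A Ap κ,
      ← IsScalarTower.algebraMap_apply G A Ap]
    rfl
  let ι : m₃.ResidueField →ₐ[R₃] κ :=
    { Ideal.ResidueField.lift m₃ (algebraMap R₃ κ)
        (fun r hr => (residue_eq_zero_iff (R := Ap) _).mpr hr)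
        (fun r hr => (IsLocalRing.residue Ap).isUnit_map (by
          by_contra h
          exact hr h)) with
      commutes' := fun r => Ideal.ResidueField.lift_algebraMap m₃ _ _ _ r }
  let _ : Algebra R₃ Ag := ψ.toRingHom.toAlgebra
  have : IsScalarTower G R₃ Ag := IsScalarTower.of_algebraMap_eq fun r => (ψ.commutes r).symm
  have : Algebra.Etale A Ag := Algebra.Etale.of_isLocalizationAway g
  let gK : Ag →ₐ[A] κ := (IsScalarTower.toAlgHom A Ap κ).comp (Groth.Agent.SpreadIso.toQ p hg)
  exact exists_nbhd_of_stage eC R₃ m₃ hlev hs ι gK fun r => congrArg (algebraMap Ap κ) (hψ r)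

end Groth.Agent.HenselHom
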