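import Groth.Agent.Hensel.Colim
import Groth.Agent.DirColim.Basic

/-!
# The henselization as an element-wise colimit of étale neighbourhoods
-/

universe u

noncomputable section

namespace Groth.Agent.HenselHom

open Groth.Agent.Hensel
open Groth.Agent.DirColim

variable {A K : Type u} [CommRing A] [CommRing K] [Algebra A K]

/-- The henselization is the colimit of the neighbourhoods. -/
theorem isColim_nbhd : IsColim (R := A) (G := fun N : Nbhd A K => N.B) (A := Henz A K) (fun N => Henz.ofB N) where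
  surj z := by
    obtain ⟨N, b, h⟩ := Henz.exists_ofB z
    exact ⟨N, b, h⟩
  directed N M := by
    obtain ⟨P, α, β, hα, hβ⟩ := N.exists_hom₂ M
    exact ⟨P, ⟨⟨α, Henz.ofB_comp α hα⟩⟩, ⟨⟨β, Henz.ofB_comp β hβ⟩⟩⟩
  ker N x hx := by
    obtain ⟨M, α, hα, h⟩ := Henz.exists_of_ofB_eq_zero hx
    exact ⟨M, ⟨α, Henz.ofB_comp α hα⟩, h⟩

/-- A refinement of a neighbourhood. -/
structure Ref (N : Nbhd A K) : Type u where
  /-- the neighbourhood -/
  M : Nbhd A K
  /-- the map -/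
  α : N.B →ₐ[A] M.B
  hα : M.toK.comp α = N.toK

/-- The algebra of a refinement. -/
def Ref.B {N : Nbhd A K} (r : Ref N) : Type u := r.M.B

instance {N : Nbhd A K} (r : Ref N) : CommRing r.B := inferInstanceAs (CommRing r.M.B)

instance {N : Nbhd A K} (r : Ref N) : Algebra A r.B := inferInstanceAs (Algebra A r.M.B)

instance {N : Nbhd A K} (r : Ref N) : Algebra.Etale A r.B := inferInstanceAs (Algebra.Etale A r.M.B)

instance {N : Nbhd A K} (r : Ref N) : Algebra N.B r.B := r.α.toRingHom.toAlgebra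

instance {N : Nbhd A K} (r : Ref N) : IsScalarTower A N.B r.B :=
  IsScalarTower.of_algebraMap_eq fun a => (r.α.commutes a).symm

theorem Ref.toK_algebraMap {N : Nbhd A K} (r : Ref N) (b : N.B) : r.M.toK (algebraMap N.B r.B b) = N.toK b :=
  AlgHom.congr_fun r.hα b

variable (N : Nbhd A K) [Algebra N.B (Henz A K)]

/-- The map of a refinement to the colimit. -/
def Ref.toHenz (hN : ∀ b, algebraMap N.B (Henz A K) b = Henz.ofB N b) (r : Ref N) : r.B →ₐ[N.B] Henz A K :=
  { (Henz.ofB r.M).toRingHom with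
    commutes' := fun b => ((hN b).trans (AlgHom.congr_fun (Henz.ofB_comp r.α r.hα) b).symm).symm }

theorem Ref.toHenz_apply (hN : ∀ b, algebraMap N.B (Henz A K) b = Henz.ofB N b) (r : Ref N) (x : r.B) :
    Ref.toHenz N hN r x = Henz.ofB r.M x := rfl

/-- The henselization is the colimit of the refinements of a neighbourhood. -/
theorem isColim_ref (hN : ∀ b, algebraMap N.B (Henz A K) b = Henz.ofB N b) :
    IsColim (R := N.B) (G := fun r : Ref N => r.B) (A := Henz A K) (Ref.toHenz N hN) where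
  surj z := by
    obtain ⟨M, b, rfl⟩ := Henz.exists_ofB z
    obtain ⟨P, α, β, hα, hβ⟩ := N.exists_hom₂ M
    exact ⟨⟨P, α, hα⟩, β b, AlgHom.congr_fun (Henz.ofB_comp β hβ) b⟩
  directed r r' := by
    obtain ⟨P, β, β', hβ, hβ'⟩ := r.M.exists_hom₂ r'.M
    obtain ⟨Q, γ, hγ, he⟩ := Nbhd.exists_equalizer (β.comp r.α) (β'.comp r'.α)
      (by rw [← AlgHom.comp_assoc, hβ, r.hα]) (by rw [← AlgHom.comp_assoc, hβ', r'.hα])
    let s : Ref N := ⟨Q, γ.comp (β.comp r.α), by rw [← AlgHom.comp_assoc, hγ, ← AlgHom.comp_assoc, hβ, r.hα]⟩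
    refine ⟨s, ⟨⟨({ (γ.comp β).toRingHom with commutes' := fun b => rfl } : r.B →ₐ[N.B] s.B), AlgHom.ext fun x => ?_⟩⟩,
      ⟨⟨({ (γ.comp β').toRingHom with commutes' := fun b => (AlgHom.congr_fun he b).symm } : r'.B →ₐ[N.B] s.B), AlgHom.ext fun x => ?_⟩⟩⟩
    · exact AlgHom.congr_fun (Henz.ofB_comp (γ.comp β) (by rw [← AlgHom.comp_assoc, hγ, hβ])) x
    · exact AlgHom.congr_fun (Henz.ofB_comp (γ.comp β') (by rw [← AlgHom.comp_assoc, hγ, hβ'])) x
  ker r x hx := by
    obtain ⟨M, γ, hγ, h⟩ := Henz.exists_of_ofB_eq_zero (N := r.M) (b := x) hx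
    let s : Ref N := ⟨M, γ.comp r.α, by rw [← AlgHom.comp_assoc, hγ, r.hα]⟩
    exact ⟨s, ⟨({ γ.toRingHom with commutes' := fun b => rfl } : r.B →ₐ[N.B] s.B),
      AlgHom.ext fun y => AlgHom.congr_fun (Henz.ofB_comp γ hγ) y⟩, h⟩

end Groth.Agent.HenselHom
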