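import Groth.Agent.HenselHom.StageSub
import Groth.Agent.MultTypeLib.Spread
import Groth.Agent.MultTypeLib.Henselian
import Groth.Agent.MultTypeLib.LocalCriteria
import Groth.Agent.Hensel.EtaleResidueExt
import Groth.Agent.Hensel.NbhdPoints
import Mathlib.RingTheory.Polynomial.Resultant.Basic

/-!
# Isotriviality descends from the henselization to an étale neighbourhood
-/

universe u

open TensorProduct Polynomial IsLocalRing
open Groth.Agent.MultTypeLib (baseChangeTrans isDiag_congr isDiag_baseChange)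

noncomputable section

namespace Groth.Agent.HenselHom

open Groth.Agent.DirColim (IsColim Trans)

/-- A colimit stays a colimit after a change of base. -/
theorem isColim_baseChange {ι : Type u} {R : Type u} [CommRing R] {G : ι → Type u} [∀ i, CommRing (G i)]
    [∀ i, Algebra R (G i)] {T : Type u} [CommRing T] [Algebra R T] {g : ∀ i, G i →ₐ[R] T} (hG : IsColim g)
    (E : Type u) [CommRing E] [Algebra R E] :
    IsColim (R := E) (G := fun i => E ⊗[R] G i) (A := E ⊗[R] T)
      (fun i => Algebra.TensorProduct.map (AlgHom.id E E) (g i)) := by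
  have hl : ∀ {S S' : Type u} [CommRing S] [Algebra R S] [CommRing S'] [Algebra R S'] (h : S →ₐ[R] S')
      (z : E ⊗[R] S), h.toLinearMap.lTensor E z = Algebra.TensorProduct.map (AlgHom.id E E) h z := by
    intro S S' _ _ _ _ h z
    induction z using TensorProduct.induction_on with
    | zero => simp
    | add a b ha hb => simp only [map_add, ha, hb]
    | tmul a b => simp
  have htr : ∀ {i j : ι} (φ : Trans g i j),
      (Algebra.TensorProduct.map (AlgHom.id E E) (g j)).comp (Algebra.TensorProduct.map (AlgHom.id E E) φ.1) =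
        Algebra.TensorProduct.map (AlgHom.id E E) (g i) := fun φ => by
    refine AlgHom.ext fun z => ?_
    rw [AlgHom.comp_apply]
    induction z using TensorProduct.induction_on with
    | zero => simp
    | add a b ha hb => simp only [map_add, ha, hb]
    | tmul a b => simp [φ.apply]
  refine ⟨fun z => ?_, fun i j => ?_, fun i x hx => ?_⟩
  · obtain ⟨i, x, hx⟩ := hG.exists_tensor_eq E z
    exact ⟨i, x, by rw [← hl]; exact hx⟩
  · obtain ⟨k, ⟨φ⟩, ⟨ψ⟩⟩ := hG.directed i j
    exact ⟨k, ⟨⟨_, htr φ⟩⟩, ⟨⟨_, htr ψ⟩⟩⟩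
  · obtain ⟨j, φ, hφ⟩ := hG.exists_tensor_eq_zero E i x (by rw [hl]; exact hx)
    exact ⟨j, ⟨_, htr φ⟩, by rw [← hl]; exact hφ⟩

/-- Diagonalisability after a finite separable residue extension lifts to a monogenic finite étale extension. -/
theorem exists_adjoinRoot_diag {W : Type u} [CommRing W] [HenselianLocalRing W]
    {D : Type u} [CommRing D] [HopfAlgebra W D] [Algebra.FiniteType W D] (hD : SGA3b.IsMultType W D)
    (k' : Type u) [Field k'] [Algebra (ResidueField W) k'] [FiniteDimensional (ResidueField W) k']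
    [Algebra.IsSeparable (ResidueField W) k'] (hd : SGA3b.IsDiag k' (k' ⊗[ResidueField W] (ResidueField W ⊗[W] D))) :
    ∃ f : W[X], f.Monic ∧ 0 < f.natDegree ∧
      IsUnit (resultant f (derivative f) f.natDegree (f.natDegree - 1)) ∧
      SGA3b.IsDiag (AdjoinRoot f) (AdjoinRoot f ⊗[W] D) := by
  let k := ResidueField W
  obtain ⟨θ, hθ⟩ := Field.exists_primitive_element k k'
  have hint : IsIntegral k θ := .of_finite k θ
  let g := minpoly k θ
  obtain ⟨f, hfg, hdeg, hf⟩ := lifts_and_natDegree_eq_and_monic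
    ((lifts_iff_coeff_lifts g).mpr fun n => residue_surjective (g.coeff n)) (minpoly.monic hint)
  have hpos : 0 < f.natDegree := by rw [hdeg]; exact minpoly.natDegree_pos hint
  have hsep : g.Separable := Algebra.IsSeparable.isSeparable k θ
  have hres : IsUnit (resultant f (derivative f) f.natDegree (f.natDegree - 1)) := by
    refine IsLocalRing.residue_ne_zero_iff_isUnit _ |>.mp ?_
    rw [← resultant_map_map, ← derivative_map, hfg, hdeg]
    have h1 : (derivative g).natDegree ≤ g.natDegree - 1 := natDegree_derivative_le g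
    rw [show g.natDegree - 1 = (derivative g).natDegree + (g.natDegree - 1 - (derivative g).natDegree) by omega,
      resultant_add_right_deg _ _ _ _ _ le_rfl, show g.coeff g.natDegree = 1 from (minpoly.monic hint).leadingCoeff,
      one_pow, one_mul]
    exact ((isUnit_resultant_iff_isCoprime (minpoly.monic hint)).mpr hsep).ne_zero
  refine ⟨f, hf, hpos, hres, ?_⟩
  let E := AdjoinRoot f
  have : Module.Finite W E := hf.finite_adjoinRoot
  let φ : E →+* k' := AdjoinRoot.lift ((algebraMap k k').comp (residue W)) θ (by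
    rw [← eval₂_map, hfg]; exact minpoly.aeval k θ)
  have hφmk : ∀ q, φ (AdjoinRoot.mk f q) = aeval θ (q.map (residue W)) := fun q => by
    rw [AdjoinRoot.lift_mk, aeval_def, eval₂_map]
  have hφsurj : Function.Surjective φ := fun z => by
    have hz : z ∈ Algebra.adjoin k {θ} := by
      rw [← IntermediateField.adjoin_simple_toSubalgebra_of_isAlgebraic hint.isAlgebraic, hθ]
      trivial
    rw [Algebra.adjoin_singleton_eq_range_aeval] at hz
    obtain ⟨q, rfl⟩ := hz
    obtain ⟨q, rfl⟩ := map_surjective (residue W) residue_surjective q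
    exact ⟨AdjoinRoot.mk f q, hφmk q⟩
  set M := RingHom.ker φ with hM
  have hMmax : M.IsMaximal := RingHom.ker_isMaximal_of_surjective φ hφsurj
  have hMle : M ≤ (maximalIdeal W).map (algebraMap W E) := fun x hx => by
    obtain ⟨q, rfl⟩ := AdjoinRoot.mk_surjective x
    rw [RingHom.mem_ker, hφmk] at hx
    obtain ⟨v, hv⟩ := minpoly.dvd k θ hx
    obtain ⟨v, rfl⟩ := map_surjective (residue W) residue_surjective v
    have hr : q - f * v ∈ RingHom.ker (mapRingHom (residue W)) := by
      rw [RingHom.mem_ker, coe_mapRingHom, Polynomial.map_sub, Polynomial.map_mul, hv, hfg, sub_self]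
    rw [ker_mapRingHom, ker_residue] at hr
    have hr' := Ideal.mem_map_of_mem (AdjoinRoot.mk f) hr
    rwa [map_sub, map_mul, AdjoinRoot.mk_self, zero_mul, sub_zero, Ideal.map_map] at hr'
  have hjac : (maximalIdeal W).map (algebraMap W E) ≤ (⊥ : Ideal E).jacobson :=
    Groth.Agent.Hensel.map_maximalIdeal_le_jacobson W E
  have huniq : ∀ N : Ideal E, N.IsMaximal → N = M := fun N hN =>
    (hMmax.eq_of_le hN.ne_top (hMle.trans (hjac.trans (by rw [Ideal.jacobson]; exact sInf_le ⟨bot_le, hN⟩)))).symm
  have : IsLocalRing E := IsLocalRing.of_unique_max_ideal ⟨M, hMmax, huniq⟩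
  have hmax : maximalIdeal E = M := huniq _ inferInstance
  have : HenselianLocalRing E := Groth.Agent.Hensel.henselianLocalRing_of_finite W E
  let χ : ResidueField E →+* k' := Ideal.Quotient.lift (maximalIdeal E) φ fun x hx => by rwa [hmax] at hx
  have hχ : Function.Bijective χ := ⟨χ.injective, fun z => (hφsurj z).elim fun x hx => ⟨residue E x, hx⟩⟩
  let ψ : k' →+* ResidueField E := (RingEquiv.ofBijective χ hχ).symm.toRingHom
  let _ : Algebra k' (ResidueField E) := ψ.toAlgebra
  let _ : Algebra W k' := ((algebraMap k k').comp (algebraMap W k)).toAlgebra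
  have : IsScalarTower W k k' := IsScalarTower.of_algebraMap_eq fun _ => rfl
  have : IsScalarTower W k' (ResidueField E) := IsScalarTower.of_algebraMap_eq fun w => by
    show algebraMap W (ResidueField E) w = ψ (algebraMap k k' (algebraMap W k w))
    apply hχ.1
    show χ _ = RingEquiv.ofBijective χ hχ ((RingEquiv.ofBijective χ hχ).symm _)
    rw [RingEquiv.apply_symm_apply]
    show φ (AdjoinRoot.mk f (C w)) = _
    rw [hφmk, map_C, aeval_C]
    rfl
  have hdE : SGA3b.IsDiag (ResidueField E) (ResidueField E ⊗[W] D) :=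
    isDiag_baseChange k' (ResidueField E) (isDiag_congr (baseChangeTrans (R := W) k k' D).symm hd)
  exact Groth.Agent.MultTypeLib.isDiag_of_henselian inferInstance
    (Groth.Agent.MultTypeLib.isMultType_baseChange E hD)
    (isDiag_congr (baseChangeTrans (R := W) E (ResidueField E) D) hdE)

/-- A group diagonalised by a monogenic étale extension over a colimit is isotrivial over a stage. -/
theorem exists_isotrivial_colim {ι : Type u} {S : Type u} [CommRing S] [Nontrivial S] {G : ι → Type u}
    [∀ i, CommRing (G i)] [∀ i, Algebra S (G i)] {W : Type u} [CommRing W] [Algebra S W]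
    {g : ∀ i, G i →ₐ[S] W} (hG : IsColim g)
    (D : Type u) [CommRing D] [HopfAlgebra S D] [Algebra.FinitePresentation S D]
    (f : S[X]) (hf : f.Monic) (hpos : 0 < f.natDegree) (hsep : f.Separable)
    (hd : SGA3b.IsDiag (AdjoinRoot (f.map (algebraMap S W)))
      (AdjoinRoot (f.map (algebraMap S W)) ⊗[W] (W ⊗[S] D))) :
    ∃ i, SGA3b.IsIsotrivial (G i) (G i ⊗[S] D) := by
  let E := AdjoinRoot f
  have := hf.finite_adjoinRoot
  have := hf.free_adjoinRoot
  have : Nontrivial E := nontrivial_of_ne 1 0 fun h => by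
    rw [← map_one (AdjoinRoot.mk f), AdjoinRoot.mk_eq_zero] at h
    exact hf.not_dvd_of_natDegree_lt one_ne_zero (by rw [natDegree_one]; exact hpos) h
  have : Algebra.Etale S E := Groth.Agent.MultTypeLib.etale_adjoinRoot f hf hsep
  have : Module.FaithfullyFlat S E := inferInstance
  let EW := AdjoinRoot (f.map (algebraMap S W))
  let Z := E ⊗[S] W
  let _ : Algebra W Z := Algebra.TensorProduct.rightAlgebra
  have : IsScalarTower S W Z := Algebra.TensorProduct.right_isScalarTower
  let η : EW →ₐ[W] Z := AdjoinRoot.liftAlgHom _ (Algebra.ofId W Z) ((AdjoinRoot.root f) ⊗ₜ[S] (1 : W)) (by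
    show Polynomial.eval₂ (algebraMap W Z) _ (f.map (algebraMap S W)) = 0
    rw [← Polynomial.aeval_def, Polynomial.aeval_map_algebraMap]
    show aeval ((Algebra.TensorProduct.includeLeft : E →ₐ[S] Z) (AdjoinRoot.root f)) f = 0
    rw [Polynomial.aeval_algHom_apply, AdjoinRoot.aeval_eq, AdjoinRoot.mk_self, map_zero])
  let _ : Algebra EW Z := η.toRingHom.toAlgebra
  have : IsScalarTower W EW Z := IsScalarTower.of_algebraMap_eq fun w => (η.commutes w).symm
  have hZ : SGA3b.IsDiag Z (Z ⊗[E] (E ⊗[S] D)) :=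
    isDiag_congr (baseChangeTrans (R := S) E Z D)
      (isDiag_congr (baseChangeTrans (R := S) W Z D).symm
        (isDiag_baseChange EW Z hd))
  obtain ⟨i, hi⟩ := Groth.Agent.MultTypeLib.exists_diag_stage (R := E) (A := E ⊗[S] D)
    (isColim_baseChange hG E) hZ
  refine ⟨i, G i ⊗[S] E, inferInstance, inferInstance, inferInstance, inferInstance, inferInstance, ?_⟩
  let X := E ⊗[S] G i
  let Y := G i ⊗[S] E
  let _ : Algebra X Y := (Algebra.TensorProduct.comm S E (G i)).toAlgHom.toRingHom.toAlgebra
  have : IsScalarTower S X Y :=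
    IsScalarTower.of_algebraMap_eq fun s => ((Algebra.TensorProduct.comm S E (G i)).commutes s).symm
  have hX : SGA3b.IsDiag X (X ⊗[S] D) := isDiag_congr (baseChangeTrans (R := S) E X D).symm hi
  exact isDiag_congr (baseChangeTrans (R := S) (G i) Y D) (isDiag_baseChange X Y hX)

open Groth.Agent.Hensel (Nbhd Henz)
open Groth.Agent.MultTypeLib (mA)

/-- The last step of the descent: a group diagonalised by a monogenic étale extension. -/
theorem exists_isotrivial_of_poly {A : Type u} [CommRing A] {p : Ideal A} [p.IsPrime] (M : Nbhd A p.ResidueField)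
    (D : Type u) [CommRing D] [HopfAlgebra M.B D] [Algebra.FinitePresentation M.B D]
    [Algebra M.B (Henz A p.ResidueField)]
    (hN : ∀ b, algebraMap M.B (Henz A p.ResidueField) b = Henz.ofB M b)
    (f : M.B[X]) (hf : f.Monic) (hpos : 0 < f.natDegree) (hsep : f.Separable)
    (hd : SGA3b.IsDiag (AdjoinRoot (f.map (algebraMap M.B (Henz A p.ResidueField))))
      (AdjoinRoot (f.map (algebraMap M.B (Henz A p.ResidueField))) ⊗[Henz A p.ResidueField]
        (Henz A p.ResidueField ⊗[M.B] D))) :
    ∃ r : Ref M, SGA3b.IsIsotrivial r.B (r.B ⊗[M.B] D) := by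
  have : Nontrivial M.B := M.toK.toRingHom.domain_nontrivial
  exact exists_isotrivial_colim (isColim_ref M hN) D f hf hpos hsep hd

set_option maxHeartbeats 2000000 in
/-- A group which is isotrivial over the henselization is isotrivial over a neighbourhood. -/
theorem exists_isotrivial_ref {A : Type u} [CommRing A] {p : Ideal A} [p.IsPrime] (M₀ : Nbhd A p.ResidueField)
    [Algebra M₀.B (Henz A p.ResidueField)] (hN : ∀ b, algebraMap M₀.B (Henz A p.ResidueField) b = Henz.ofB M₀ b)
    (D : Type u) [CommRing D] [HopfAlgebra M₀.B D] [Algebra.FinitePresentation M₀.B D]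
    (hWI : SGA3b.IsIsotrivial (Henz A p.ResidueField) (Henz A p.ResidueField ⊗[M₀.B] D)) :
    ∃ r : Ref M₀, SGA3b.IsIsotrivial r.B (r.B ⊗[M₀.B] D) := by
  classical
  let W := Henz A p.ResidueField
  let S := M₀.B
  have hWM : SGA3b.IsMultType W (W ⊗[S] D) := by
    obtain ⟨E, _, _, -, -, hff, hd⟩ := hWI
    exact Groth.Agent.MultTypeLib.isMultType_of_ff E hd
  let k := ResidueField W
  obtain ⟨k', _, _, _, _, M', inst, -, e'⟩ := Groth.Agent.MultTypeLib.isotrivial_of_field k (k ⊗[W] (W ⊗[S] D))
    inferInstance (Groth.Agent.MultTypeLib.isMultType_baseChange k hWM)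
  obtain ⟨f, hf, hpos, hres, hd⟩ := exists_adjoinRoot_diag hWM k' ⟨M', inst, e'⟩
  -- descend the polynomial
  have hG := isColim_ref M₀ hN
  let n := f.natDegree
  obtain ⟨w, hw⟩ := hres.exists_right_inv
  obtain ⟨r₁, x, hx₁⟩ := hG.surj_fintype fun i : Option (Fin n) => i.elim w (fun j => f.coeff j)
  let f₁ : r₁.B[X] := X ^ n + ∑ j : Fin n, Polynomial.C (x (some j)) * X ^ (j : ℕ)
  have hf₁ : f₁.map (Ref.toHenz M₀ hN r₁).toRingHom = f := by
    conv_rhs => rw [hf.as_sum, ← Fin.sum_univ_eq_sum_range (fun i => Polynomial.C (f.coeff i) * X ^ i)]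
    simp only [f₁, Polynomial.map_add, Polynomial.map_pow, Polynomial.map_X, Polynomial.map_sum, Polynomial.map_mul,
      Polynomial.map_C]
    congr 1
    refine Finset.sum_congr rfl fun j _ => ?_
    rw [show (Ref.toHenz M₀ hN r₁).toRingHom (x (some j)) = f.coeff j from hx₁ (some j)]
  have hf₁m : f₁.Monic := monic_X_pow_add (degree_sum_fin_lt _)
  have : Nontrivial r₁.B := r₁.M.toK.toRingHom.domain_nontrivial
  have hdeg₁ : f₁.natDegree = n := natDegree_eq_of_degree_eq_some (by
    rw [degree_add_eq_left_of_degree_lt (by rw [degree_X_pow]; exact degree_sum_fin_lt _), degree_X_pow])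
  obtain ⟨r₂, φ, hφ⟩ := hG.eq_of_apply_eq r₁ (resultant f₁ (derivative f₁) n (n - 1) * x none) 1 (by
    rw [map_mul, map_one, hx₁ none]
    show (Ref.toHenz M₀ hN r₁).toRingHom _ * w = 1
    rw [← resultant_map_map, ← derivative_map, hf₁]
    exact hw)
  let f₂ : r₂.B[X] := f₁.map φ.1.toRingHom
  have : Nontrivial r₂.B := r₂.M.toK.toRingHom.domain_nontrivial
  have hdeg₂ : f₂.natDegree = n := (hf₁m.natDegree_map _).trans hdeg₁
  have hsep : f₂.Separable := by
    obtain ⟨a, b, -, -, hab⟩ := exists_mul_add_mul_eq_C_resultant (m := n) (n := n - 1) f₂ (derivative f₂)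
      hdeg₂.le ((natDegree_derivative_le f₂).trans (by rw [hdeg₂])) (Or.inl hpos.ne')
    have hu : resultant f₂ (derivative f₂) n (n - 1) * φ.1 (x none) = 1 := by
      show resultant (f₁.map φ.1.toRingHom) (derivative (f₁.map φ.1.toRingHom)) n (n - 1) * _ = 1
      rw [derivative_map, resultant_map_map]
      exact (map_mul φ.1 _ _).symm.trans (hφ.trans (map_one φ.1))
    refine ⟨Polynomial.C (φ.1 (x none)) * a, Polynomial.C (φ.1 (x none)) * b, ?_⟩
    rw [mul_assoc, mul_assoc, ← mul_add, mul_comm a, mul_comm b, hab, ← map_mul, mul_comm, hu, map_one]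
  let _ : Algebra r₂.B W := (Ref.toHenz M₀ hN r₂).toRingHom.toAlgebra
  have : IsScalarTower S r₂.B W := IsScalarTower.of_algebraMap_eq fun b => ((Ref.toHenz M₀ hN r₂).commutes b).symm
  have hf₂ : f₂.map (algebraMap r₂.B W) = f := by
    rw [← hf₁, Polynomial.map_map]
    congr 1
    exact RingHom.ext fun y => φ.apply y
  let D₂ := r₂.B ⊗[S] D
  have hd₂ : SGA3b.IsDiag (AdjoinRoot (f₂.map (algebraMap r₂.B W)))
      (AdjoinRoot (f₂.map (algebraMap r₂.B W)) ⊗[W] (W ⊗[r₂.B] D₂)) := by
    rw [hf₂]
    exact isDiag_congr (Groth.Agent.MultTypeLib.congrBase _ (baseChangeTrans (R := S) r₂.B W D)) hd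
  have p₂ : Algebra.FinitePresentation r₂.B D₂ := inferInstance
  obtain ⟨r, hr⟩ := @exists_isotrivial_of_poly A _ p _ r₂.M D₂ _ (inferInstance : HopfAlgebra r₂.B D₂) p₂
    (Ref.toHenz M₀ hN r₂).toRingHom.toAlgebra (fun _ => rfl) f₂
    (hf₁m.map _) (lt_of_lt_of_eq hpos hdeg₂.symm) hsep hd₂
  let r' : Ref M₀ := ⟨r.M, r.α.comp r₂.α, by rw [← AlgHom.comp_assoc, r.hα, r₂.hα]⟩
  let _ : Algebra r₂.B r'.B := r.α.toRingHom.toAlgebra
  have : IsScalarTower S r₂.B r'.B := IsScalarTower.of_algebraMap_eq fun _ => rfl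
  refine ⟨r', isIsotrivial_congr (baseChangeTrans (R := S) r₂.B r'.B D).symm ?_⟩
  exact hr

/-- An open and closed subgroup which is isotrivial over the henselization is isotrivial over a neighbourhood. -/
theorem exists_isotrivial_stage {A : Type u} [CommRing A] {C : Type u} [CommRing C] [HopfAlgebra A C]
    [Algebra.FinitePresentation A C] {p : Ideal A} [p.IsPrime] (M₀ : Nbhd A p.ResidueField)
    (o : OpenClosed A C M₀.B) (oh : OpenClosed A C (Henz A p.ResidueField))
    (hx : mA C (Henz.ofB M₀) o.x = oh.x) (hB : SGA3b.IsIsotrivial (Henz A p.ResidueField) oh.D) :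
    ∃ (M : Nbhd A p.ResidueField) (o' : OpenClosed A C M.B), SGA3b.IsIsotrivial M.B o'.D ∧
      mA C M.toK o'.x = mA C M₀.toK o.x := by
  let W := Henz A p.ResidueField
  let _ : Algebra M₀.B W := (Henz.ofB M₀).toRingHom.toAlgebra
  have : IsScalarTower A M₀.B W := IsScalarTower.of_algebraMap_eq fun a => ((Henz.ofB M₀).commutes a).symm
  have htoAlg : IsScalarTower.toAlgHom A M₀.B W = Henz.ofB M₀ := AlgHom.ext fun _ => rfl
  obtain ⟨eW⟩ := OpenClosed.equiv_of_x_eq oh (o.push W) (by rw [OpenClosed.push_x, htoAlg, hx])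
  have := o.finitePresentation
  obtain ⟨r, hr⟩ := exists_isotrivial_ref M₀ (fun _ => rfl) o.D (isIsotrivial_congr eW hB)
  refine ⟨r.M, o.push r.B, hr, ?_⟩
  have key : ∀ z : M₀.B ⊗[A] C, mA C r.M.toK (mA C (IsScalarTower.toAlgHom A M₀.B r.B) z) = mA C M₀.toK z := by
    intro z
    induction z using TensorProduct.induction_on with
    | zero => simp only [map_zero]; exact map_zero _
    | add a b ha hb => simp only [map_add]; exact (map_add _ _ _).trans (congrArg₂ (· + ·) ha hb)
    | tmul a b => exact congrArg (· ⊗ₜ[A] b) (Ref.toK_algebraMap r a)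
  exact key o.x

end Groth.Agent.HenselHom
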