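import Groth.Agent.HenselHom.StageColim
import Groth.Agent.MultTypeLib.HopfKer
import Groth.Agent.MultTypeLib.Rigid
import Groth.Agent.MultTypeLib.Sub
import Groth.Agent.MultTypeLib.LocalCriteria
import Mathlib.RingTheory.HopfAlgebra.Quotient

/-!
# A quotient by an idempotent descends to an étale neighbourhood
-/

universe u

open TensorProduct Coalgebra Bialgebra
open Groth.Agent.MultTypeLib (SemiBialgHom mA sq baseChangeTrans bcHom ker_bc_quot bcQuot_apply)

noncomputable section

namespace Groth.Agent.HenselHom

open Groth.Agent.Hensel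
open Groth.Agent.DirColim (IsColim Trans)

variable {A : Type u} [CommRing A] {C : Type u} [CommRing C] [HopfAlgebra A C]

/-- The defect of an idempotent: not idempotent. -/
def dIdem (S : Type u) [CommRing S] [Algebra A S] (x : S ⊗[A] C) : S ⊗[A] C := x * x - x

/-- The defect for the counit. -/
def dCounit (S : Type u) [CommRing S] [Algebra A S] (x : S ⊗[A] C) : S :=
  Algebra.TensorProduct.lift (AlgHom.id A S) ((Algebra.ofId A S).comp (Bialgebra.counitAlgHom A C))
    (fun _ _ => .all _ _) x

/-- The defect for the antipode. -/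
def dAnti (S : Type u) [CommRing S] [Algebra A S] (x : S ⊗[A] C) : S ⊗[A] C :=
  Algebra.TensorProduct.map (AlgHom.id A S) (HopfAlgebra.antipodeAlgHom A C) x * (1 - x)

/-- The defect for the comultiplication. -/
def dComul (S : Type u) [CommRing S] [Algebra A S] (x : S ⊗[A] C) : S ⊗[A] (C ⊗[A] C) :=
  Algebra.TensorProduct.map (AlgHom.id A S) (Bialgebra.comulAlgHom A C) x *
    (Algebra.TensorProduct.map (AlgHom.id A S) Algebra.TensorProduct.includeLeft (1 - x) *
      Algebra.TensorProduct.map (AlgHom.id A S) Algebra.TensorProduct.includeRight (1 - x))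

theorem map_map_comm {S T : Type u} [CommRing S] [Algebra A S] [CommRing T] [Algebra A T] {X Y : Type u}
    [CommRing X] [Algebra A X] [CommRing Y] [Algebra A Y] (f : S →ₐ[A] T) (g : X →ₐ[A] Y) (x : S ⊗[A] X) :
    Algebra.TensorProduct.map f (AlgHom.id A Y) (Algebra.TensorProduct.map (AlgHom.id A S) g x) =
      Algebra.TensorProduct.map (AlgHom.id A T) g (Algebra.TensorProduct.map f (AlgHom.id A X) x) := by
  induction x using TensorProduct.induction_on with
  | zero => simp
  | add a b ha hb => simp only [map_add, ha, hb]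
  | tmul a b => simp

variable {S T : Type u} [CommRing S] [Algebra A S] [CommRing T] [Algebra A T] (f : S →ₐ[A] T) (x : S ⊗[A] C)

theorem mA_dIdem : mA C f (dIdem S x) = dIdem T (mA C f x) := by simp [dIdem]

theorem mA_dCounit : f (dCounit S x) = dCounit T (mA C f x) := by
  unfold dCounit
  induction x using TensorProduct.induction_on with
  | zero => simp
  | add a b ha hb => simp only [map_add, ha, hb]
  | tmul a b => simp

theorem mA_dAnti : mA C f (dAnti S x) = dAnti T (mA C f x) := by
  unfold dAnti
  rw [map_mul, map_sub, map_one]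
  exact congrArg (· * _) (map_map_comm f _ x)

theorem mA_dComul : Algebra.TensorProduct.map f (AlgHom.id A (C ⊗[A] C)) (dComul S x) = dComul T (mA C f x) := by
  unfold dComul
  rw [map_mul, map_mul, map_map_comm, map_map_comm, map_map_comm, map_sub, map_one]

theorem span_singleton_eq_ker_mk {X : Type u} [CommRing X] {e y : X} (he : IsIdempotentElem e) :
    y ∈ Ideal.span {e} ↔ y * (1 - e) = 0 := by
  refine ⟨fun h => ?_, fun h => ?_⟩
  · obtain ⟨w, rfl⟩ := Ideal.mem_span_singleton.mp h
    rw [mul_right_comm, he.mul_one_sub_self, zero_mul]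
  · exact Ideal.mem_span_singleton.mpr ⟨y, by linear_combination h⟩

/-- Vanishing defects define a Hopf ideal. -/
theorem isHopfIdeal_of_defects (h1 : IsIdempotentElem x) (h2 : dCounit S x = 0) (h3 : dAnti S x = 0)
    (h4 : dComul S x = 0) : (Ideal.span {x}).IsHopfIdeal S := by
  have hcu : Coalgebra.counit (R := S) x = 0 := by
    rw [← h2]
    clear h1 h2 h3 h4
    induction x using TensorProduct.induction_on with
    | zero => simp [dCounit]
    | add a b ha hb => simp only [dCounit, map_add] at ha hb ⊢; rw [ha, hb]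
    | tmul a b => simp [dCounit, Algebra.smul_def, mul_comm]
  refine
    { counit_eq_zero := fun y hy => ?_
      map_mkQ_comul_eq_zero := fun y hy => ?_
      antipode_mem := fun y hy => ?_ }
  · obtain ⟨w, rfl⟩ := Ideal.mem_span_singleton.mp hy
    rw [Bialgebra.counit_mul, hcu, zero_mul]
  · obtain ⟨w, rfl⟩ := Ideal.mem_span_singleton.mp hy
    let q : S ⊗[A] C →ₐ[S] (S ⊗[A] C) ⧸ Ideal.span {x} := Ideal.Quotient.mkₐ S _
    suffices Algebra.TensorProduct.map q q (Coalgebra.comul (R := S) (x * w)) = 0 from this
    have hq : q x = 0 := Ideal.Quotient.eq_zero_iff_mem.mpr (Ideal.mem_span_singleton_self x)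
    let δ := (Groth.Agent.MultTypeLib.sq S (SemiBialgHom.baseChange A S C).toAlgHom)
    let L : S ⊗[A] (C ⊗[A] C) →ₐ[A] (S ⊗[A] C) ⊗[S] (S ⊗[A] C) :=
      Algebra.TensorProduct.lift (IsScalarTower.toAlgHom A S _) δ fun _ _ => .all _ _
    have hΔ : Coalgebra.comul (R := S) x =
        L (Algebra.TensorProduct.map (AlgHom.id A S) (Bialgebra.comulAlgHom A C) x) := by
      clear h1 h2 h3 h4 hcu hq hy
      induction x using TensorProduct.induction_on with
      | zero => simp
      | add a b ha hb => simp only [map_add, ha, hb]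
      | tmul a b =>
        rw [show (a ⊗ₜ[A] b : S ⊗[A] C) = algebraMap S (S ⊗[A] C) a * (1 ⊗ₜ b) by simp, Bialgebra.comul_mul,
          Bialgebra.comul_algebraMap]
        simp only [L, δ, Algebra.TensorProduct.algebraMap_apply, Algebra.algebraMap_self, RingHom.id_apply,
          Algebra.TensorProduct.tmul_mul_tmul, mul_one, one_mul, Algebra.TensorProduct.map_tmul, AlgHom.id_apply,
          Algebra.TensorProduct.lift_tmul, IsScalarTower.coe_toAlgHom', Bialgebra.comulAlgHom_apply]
        exact congrArg _ ((SemiBialgHom.baseChange A S C).comul_comp b)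
    have hL1 : ∀ z, q z = 1 → Algebra.TensorProduct.map q q
        (L (Algebra.TensorProduct.map (AlgHom.id A S) Algebra.TensorProduct.includeLeft z)) = 1 := by
      intro z hz
      have : L (Algebra.TensorProduct.map (AlgHom.id A S) Algebra.TensorProduct.includeLeft z) = z ⊗ₜ[S] 1 := by
        clear hz
        induction z using TensorProduct.induction_on with
        | zero => simp
        | add a b ha hb => simp only [map_add, ha, hb, TensorProduct.add_tmul]
        | tmul a b =>
          simp [L, δ, SemiBialgHom.baseChange, Algebra.TensorProduct.algebraMap_apply, TensorProduct.smul_tmul',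
            Algebra.smul_def, Algebra.TensorProduct.one_def]
      rw [this, Algebra.TensorProduct.map_tmul, hz, map_one, Algebra.TensorProduct.one_def]
    have hL2 : ∀ z, q z = 1 → Algebra.TensorProduct.map q q
        (L (Algebra.TensorProduct.map (AlgHom.id A S) Algebra.TensorProduct.includeRight z)) = 1 := by
      intro z hz
      have : L (Algebra.TensorProduct.map (AlgHom.id A S) Algebra.TensorProduct.includeRight z) = 1 ⊗ₜ[S] z := by
        clear hz
        induction z using TensorProduct.induction_on with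
        | zero => simp
        | add a b ha hb => simp only [map_add, ha, hb, TensorProduct.tmul_add]
        | tmul a b =>
          simp only [L, δ, SemiBialgHom.baseChange, Algebra.TensorProduct.map_tmul, AlgHom.id_apply,
            Algebra.TensorProduct.includeRight_apply, Algebra.TensorProduct.lift_tmul,
            Groth.Agent.MultTypeLib.sq_tmul, IsScalarTower.coe_toAlgHom']
          rw [show (a ⊗ₜ[A] b : S ⊗[A] C) = a • ((1 : S) ⊗ₜ b) by rw [TensorProduct.smul_tmul', smul_eq_mul, mul_one],
            TensorProduct.tmul_smul]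
          exact (Algebra.smul_def a _).symm
      rw [this, Algebra.TensorProduct.map_tmul, hz, map_one, Algebra.TensorProduct.one_def]
    have h1x : q (1 - x) = 1 := by rw [map_sub, hq, map_one, sub_zero]
    have hx0 : Algebra.TensorProduct.map q q (Coalgebra.comul (R := S) x) = 0 := by
      have h5 := congrArg (fun z => Algebra.TensorProduct.map q q (L z)) h4
      simp only [dComul, map_mul, map_zero, hL1 _ h1x, hL2 _ h1x, mul_one] at h5
      rw [hΔ]
      exact h5
    rw [Bialgebra.comul_mul, map_mul, hx0, zero_mul]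
  · obtain ⟨w, rfl⟩ := Ideal.mem_span_singleton.mp hy
    have hS : HopfAlgebra.antipode S x ∈ Ideal.span {x} := by
      rw [span_singleton_eq_ker_mk h1,
        show HopfAlgebra.antipode S x =
          Algebra.TensorProduct.map (AlgHom.id A S) (HopfAlgebra.antipodeAlgHom A C) x from ?_]
      · exact h3
      clear h1 h2 h3 h4 hcu hy
      induction x using TensorProduct.induction_on with
      | zero => simp
      | add a b ha hb => simp only [map_add, ha, hb]
      | tmul a b => simp
    show HopfAlgebra.antipodeAlgHom S (S ⊗[A] C) (x * w) ∈ _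
    rw [map_mul]
    exact Ideal.mul_mem_right _ _ hS

/-- The kernel of a surjection onto a Hopf algebra, generated by an idempotent, has no defects. -/
theorem defects_eq_zero {B : Type u} [CommRing B] [HopfAlgebra S B] (φ : S ⊗[A] C →ₐc[S] B)
    (hker : ∀ y, φ y = 0 ↔ y ∈ Ideal.span {x}) (hφ : Function.Surjective φ) (h1 : IsIdempotentElem x) :
    dCounit S x = 0 ∧ dAnti S x = 0 ∧ dComul S x = 0 := by
  have hx : φ x = 0 := (hker x).mpr (Ideal.mem_span_singleton_self x)
  refine ⟨?_, ?_, ?_⟩
  · have : Coalgebra.counit (R := S) x = dCounit S x := by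
      clear h1 hker hx
      induction x using TensorProduct.induction_on with
      | zero => simp [dCounit]
      | add a b ha hb => simp only [dCounit, map_add] at ha hb ⊢; rw [ha, hb]
      | tmul a b => simp [dCounit, Algebra.smul_def, mul_comm]
    rw [← this, ← CoalgHomClass.counit_comp_apply φ, hx, map_zero]
  · have : HopfAlgebra.antipode S x =
        Algebra.TensorProduct.map (AlgHom.id A S) (HopfAlgebra.antipodeAlgHom A C) x := by
      clear h1 hker hx
      induction x using TensorProduct.induction_on with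
      | zero => simp
      | add a b ha hb => simp only [map_add, ha, hb]
      | tmul a b => simp
    rw [dAnti, ← this, ← span_singleton_eq_ker_mk h1, ← hker, ← Groth.Agent.MultTypeLib.antipode_comm, hx, map_zero]
  · let L : S ⊗[A] (C ⊗[A] C) ≃ₗ[S] (S ⊗[A] C) ⊗[S] (S ⊗[A] C) :=
      TensorProduct.AlgebraTensorModule.distribBaseChange A S C C
    let la : S ⊗[A] (C ⊗[A] C) →ₐ[A] (S ⊗[A] C) ⊗[S] (S ⊗[A] C) :=
      Algebra.TensorProduct.lift (IsScalarTower.toAlgHom A S _)
        (Groth.Agent.MultTypeLib.sq S (SemiBialgHom.baseChange A S C).toAlgHom) fun _ _ => .all _ _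
    have hla : ∀ z, la z = L z := by
      intro z
      induction z using TensorProduct.induction_on with
      | zero => simp
      | add a b ha hb => simp only [map_add, ha, hb]
      | tmul a b =>
        rw [show (a ⊗ₜ[A] b : S ⊗[A] (C ⊗[A] C)) = a • ((1 : S) ⊗ₜ b) by
          rw [TensorProduct.smul_tmul', smul_eq_mul, mul_one], map_smul L]
        simp only [la, TensorProduct.smul_tmul', smul_eq_mul, mul_one, Algebra.TensorProduct.lift_tmul,
          IsScalarTower.coe_toAlgHom']
        rw [← Algebra.smul_def]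
        congr 1
        induction b using TensorProduct.induction_on with
        | zero => simp
        | add b b' hb hb' => simp only [TensorProduct.tmul_add, map_add, hb, hb']
        | tmul b b' => simp [L, SemiBialgHom.baseChange]
    apply L.injective
    rw [map_zero, ← hla]
    simp only [dComul, map_mul]
    have hΔ : la (Algebra.TensorProduct.map (AlgHom.id A S) (Bialgebra.comulAlgHom A C) x) =
        Coalgebra.comul (R := S) x := by
      clear h1 hker hx
      induction x using TensorProduct.induction_on with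
      | zero => simp
      | add a b ha hb => simp only [map_add, ha, hb]
      | tmul a b =>
        rw [show (a ⊗ₜ[A] b : S ⊗[A] C) = algebraMap S (S ⊗[A] C) a * (1 ⊗ₜ b) by simp, Bialgebra.comul_mul,
          Bialgebra.comul_algebraMap]
        simp only [la, Algebra.TensorProduct.algebraMap_apply, Algebra.algebraMap_self, RingHom.id_apply,
          Algebra.TensorProduct.tmul_mul_tmul, mul_one, one_mul, Algebra.TensorProduct.map_tmul, AlgHom.id_apply,
          Algebra.TensorProduct.lift_tmul, IsScalarTower.coe_toAlgHom', Bialgebra.comulAlgHom_apply]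
        exact congrArg _ ((SemiBialgHom.baseChange A S C).comul_comp b).symm
    have hl : ∀ z : S ⊗[A] C, la (Algebra.TensorProduct.map (AlgHom.id A S) Algebra.TensorProduct.includeLeft z) = z ⊗ₜ[S] 1 := by
      intro z
      induction z using TensorProduct.induction_on with
      | zero => simp
      | add a b ha hb => simp only [map_add, ha, hb, TensorProduct.add_tmul]
      | tmul a b =>
        simp [la, SemiBialgHom.baseChange, Algebra.TensorProduct.algebraMap_apply, TensorProduct.smul_tmul',
          Algebra.smul_def, Algebra.TensorProduct.one_def]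
    have hr : ∀ z : S ⊗[A] C, la (Algebra.TensorProduct.map (AlgHom.id A S) Algebra.TensorProduct.includeRight z) = 1 ⊗ₜ[S] z := by
      intro z
      induction z using TensorProduct.induction_on with
      | zero => simp
      | add a b ha hb => simp only [map_add, ha, hb, TensorProduct.tmul_add]
      | tmul a b =>
        simp only [la, SemiBialgHom.baseChange, Algebra.TensorProduct.map_tmul, AlgHom.id_apply,
          Algebra.TensorProduct.includeRight_apply, Algebra.TensorProduct.lift_tmul,
          Groth.Agent.MultTypeLib.sq_tmul, IsScalarTower.coe_toAlgHom']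
        rw [show (a ⊗ₜ[A] b : S ⊗[A] C) = a • ((1 : S) ⊗ₜ b) by rw [TensorProduct.smul_tmul', smul_eq_mul, mul_one],
          TensorProduct.tmul_smul]
        exact (Algebra.smul_def a _).symm
    rw [hΔ, hl, hr]
    have hk : Coalgebra.comul (R := S) x ∈
        RingHom.ker (Algebra.TensorProduct.map (φ : S ⊗[A] C →ₐ[S] B) (φ : S ⊗[A] C →ₐ[S] B)) := by
      rw [RingHom.mem_ker]
      exact (CoalgHomClass.map_comp_comul_apply φ x).trans (by rw [hx, map_zero])
    rw [Algebra.TensorProduct.map_ker _ _ hφ hφ] at hk
    have hK : RingHom.ker (φ : S ⊗[A] C →ₐ[S] B) = Ideal.span {x} := Ideal.ext fun y => hker y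
    rw [hK, Ideal.map_span, Ideal.map_span, Set.image_singleton, Set.image_singleton, Submodule.mem_sup] at hk
    obtain ⟨u, hu, v, hv, huv⟩ := hk
    obtain ⟨u, rfl⟩ := Ideal.mem_span_singleton.mp hu
    obtain ⟨v, rfl⟩ := Ideal.mem_span_singleton.mp hv
    rw [← huv, Algebra.TensorProduct.includeLeft_apply, Algebra.TensorProduct.includeRight_apply,
      Algebra.TensorProduct.tmul_mul_tmul, one_mul, mul_one, add_mul,
      mul_comm (x ⊗ₜ[S] (1 : S ⊗[A] C)) u, mul_assoc u, mul_comm ((1 : S ⊗[A] C) ⊗ₜ[S] x) v, mul_assoc v,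
      Algebra.TensorProduct.tmul_mul_tmul, Algebra.TensorProduct.tmul_mul_tmul, h1.mul_one_sub_self, one_mul]
    simp [h1.mul_one_sub_self]

set_option maxHeartbeats 1000000 in
/-- The idempotent descends. -/
theorem exists_stage_idem {p : Ideal A} [p.IsPrime] {e : Henz A p.ResidueField ⊗[A] C}
    {B : Type u} [CommRing B] [HopfAlgebra (Henz A p.ResidueField) B]
    (φ : Henz A p.ResidueField ⊗[A] C →ₐc[Henz A p.ResidueField] B)
    (hker : ∀ y, φ y = 0 ↔ y ∈ Ideal.span {e}) (hφ : Function.Surjective φ) (he : IsIdempotentElem e) :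
    ∃ (N : Nbhd A p.ResidueField) (x : N.B ⊗[A] C), IsIdempotentElem x ∧ (Ideal.span {x}).IsHopfIdeal N.B ∧
      mA C (Henz.ofB N) x = e := by
  obtain ⟨hc, ha, hd⟩ := defects_eq_zero e φ hker hφ he
  have hG := isColim_nbhd (A := A) (K := p.ResidueField)
  have hrT : ∀ {S T : Type u} [CommRing S] [Algebra A S] [CommRing T] [Algebra A T] (g : S →ₐ[A] T)
      {X : Type u} [CommRing X] [Algebra A X] (z : S ⊗[A] X),
      g.toLinearMap.rTensor X z = Algebra.TensorProduct.map g (AlgHom.id A X) z := by
    intro S T _ _ _ _ g X _ _ z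
    induction z using TensorProduct.induction_on with
    | zero => simp
    | add a b ha hb => simp only [map_add, ha, hb]
    | tmul a b => simp
  have hpush : ∀ {N M : Nbhd A p.ResidueField} (α : Trans (fun N : Nbhd A p.ResidueField => Henz.ofB N) N M)
      (z : N.B ⊗[A] C), mA C (Henz.ofB M) (mA C α.1 z) = mA C (Henz.ofB N) z := by
    intro N M α z
    induction z using TensorProduct.induction_on with
    | zero => simp
    | add a b ha hb => simp only [map_add, ha, hb]
    | tmul a b =>
      rw [Algebra.TensorProduct.map_tmul, Algebra.TensorProduct.map_tmul, Algebra.TensorProduct.map_tmul,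
        α.apply]
      rfl
  obtain ⟨N₀, x₀, hx₀⟩ := hG.exists_rTensor_eq C e
  rw [hrT] at hx₀
  obtain ⟨N₁, φ₁, h₁⟩ := hG.exists_rTensor_eq_zero C N₀ (dIdem N₀.B x₀) (by
    rw [hrT, mA_dIdem, hx₀, dIdem, he.eq, sub_self])
  rw [hrT, mA_dIdem] at h₁
  let x₁ := mA C φ₁.1 x₀
  have hx₁ : mA C (Henz.ofB N₁) x₁ = e := by
    rw [← hx₀]; exact hpush φ₁ _
  obtain ⟨N₂, φ₂, h₂⟩ := hG.ker N₁ (dCounit N₁.B x₁) (by rw [mA_dCounit, hx₁]; exact hc)
  rw [mA_dCounit] at h₂
  let x₂ := mA C φ₂.1 x₁
  have hx₂ : mA C (Henz.ofB N₂) x₂ = e := by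
    rw [← hx₁]; exact hpush φ₂ _
  obtain ⟨N₃, φ₃, h₃⟩ := hG.exists_rTensor_eq_zero C N₂ (dAnti N₂.B x₂) (by
    rw [hrT, mA_dAnti, hx₂]; exact ha)
  rw [hrT, mA_dAnti] at h₃
  let x₃ := mA C φ₃.1 x₂
  have hx₃ : mA C (Henz.ofB N₃) x₃ = e := by
    rw [← hx₂]; exact hpush φ₃ _
  obtain ⟨N₄, φ₄, h₄⟩ := hG.exists_rTensor_eq_zero (C ⊗[A] C) N₃ (dComul N₃.B x₃) (by
    rw [hrT, mA_dComul, hx₃]; exact hd)
  rw [hrT, mA_dComul] at h₄
  refine ⟨N₄, mA C φ₄.1 x₃, ?_, isHopfIdeal_of_defects _ ?_ ?_ ?_ h₄, ?_⟩
  · exact ((show IsIdempotentElem x₁ from sub_eq_zero.mp h₁).map (mA C φ₂.1)).map (mA C φ₃.1) |>.map (mA C φ₄.1)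
  · exact ((show IsIdempotentElem x₁ from sub_eq_zero.mp h₁).map (mA C φ₂.1)).map (mA C φ₃.1) |>.map (mA C φ₄.1)
  · rw [← mA_dCounit, ← mA_dCounit]
    show φ₄.1 (φ₃.1 (dCounit N₂.B x₂)) = 0
    rw [h₂, map_zero, map_zero]
  · rw [← mA_dAnti]
    show mA C φ₄.1 (dAnti N₃.B x₃) = 0
    rw [h₃, map_zero]
  · rw [← hx₃]; exact hpush φ₄ _

end Groth.Agent.HenselHom
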