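import Groth.Agent.HenselHom.StageIdem
import Groth.Agent.MultTypeLib.MultNil
import Mathlib.RingTheory.FinitePresentation
import Mathlib.RingTheory.RingHom.FinitePresentation

/-!
# Open and closed subgroups and their base change
-/

universe u

open TensorProduct Coalgebra Bialgebra
open Groth.Agent.MultTypeLib (mA baseChangeTrans bcHom isDiag_congr isDiag_baseChange)

noncomputable section

namespace Groth.Agent.HenselHom

/-- An open and closed subgroup of `S ⊗ C`: a quotient Hopf algebra with kernel generated by an idempotent. -/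
structure OpenClosed (A : Type u) [CommRing A] (C : Type u) [CommRing C] [HopfAlgebra A C] (S : Type u)
    [CommRing S] [Algebra A S] : Type (u + 1) where
  /-- the Hopf algebra -/
  D : Type u
  [ring : CommRing D]
  [hopf : HopfAlgebra S D]
  /-- the quotient map -/
  π : S ⊗[A] C →ₐc[S] D
  surj : Function.Surjective π
  /-- the idempotent -/
  x : S ⊗[A] C
  idem : IsIdempotentElem x
  ker : ∀ y, π y = 0 ↔ y ∈ Ideal.span {x}

attribute [instance] OpenClosed.ring OpenClosed.hopf

variable {A : Type u} [CommRing A] {C : Type u} [CommRing C] [HopfAlgebra A C]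

/-- The subgroup cut out by an idempotent generating a Hopf ideal. -/
def OpenClosed.ofIdem {S : Type u} [CommRing S] [Algebra A S] (x : S ⊗[A] C) (hx : IsIdempotentElem x)
    [(Ideal.span {x}).IsHopfIdeal S] : OpenClosed A C S where
  D := (S ⊗[A] C) ⧸ Ideal.span {x}
  π := Bialgebra.Quotient.mkBialgHom (R := S) (Ideal.span {x})
  surj := Ideal.Quotient.mk_surjective
  x := x
  idem := hx
  ker _ := Ideal.Quotient.eq_zero_iff_mem

theorem OpenClosed.ker_eq {S : Type u} [CommRing S] [Algebra A S] (o : OpenClosed A C S) :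
    RingHom.ker (o.π : S ⊗[A] C →ₐ[S] o.D) = Ideal.span {o.x} :=
  Ideal.ext fun y => o.ker y

theorem OpenClosed.finitePresentation {S : Type u} [CommRing S] [Algebra A S] [Algebra.FinitePresentation A C]
    (o : OpenClosed A C S) : Algebra.FinitePresentation S o.D :=
  Algebra.FinitePresentation.of_surjective (f := (o.π : S ⊗[A] C →ₐ[S] o.D)) o.surj
    (o.ker_eq ▸ Submodule.fg_span_singleton o.x)

/-- Two surjections with the same kernel differ by an isomorphism. -/
theorem exists_bialgEquiv {S : Type u} [CommRing S] {X Y Z : Type u} [CommRing X] [HopfAlgebra S X] [CommRing Y]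
    [HopfAlgebra S Y] [CommRing Z] [HopfAlgebra S Z] (f : X →ₐc[S] Y) (g : X →ₐc[S] Z)
    (hf : Function.Surjective f) (hg : Function.Surjective g) (hker : ∀ x, f x = 0 ↔ g x = 0) :
    ∃ θ : Y ≃ₐc[S] Z, ∀ x, θ (f x) = g x := by
  have hk : RingHom.ker (f : X →ₐ[S] Y) = RingHom.ker (g : X →ₐ[S] Z) := Ideal.ext fun x => hker x
  let e : Y ≃ₐ[S] Z := (Ideal.quotientKerAlgEquivOfSurjective (f := (f : X →ₐ[S] Y)) hf).symm.trans
    ((Ideal.quotientEquivAlgOfEq S hk).trans (Ideal.quotientKerAlgEquivOfSurjective (f := (g : X →ₐ[S] Z)) hg))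
  have he : ∀ x, e (f x) = g x := fun x => by
    have h1 : (Ideal.quotientKerAlgEquivOfSurjective (f := (f : X →ₐ[S] Y)) hf).symm (f x) =
        Ideal.Quotient.mk _ x := by
      rw [AlgEquiv.symm_apply_eq]; rfl
    show Ideal.quotientKerAlgEquivOfSurjective (f := (g : X →ₐ[S] Z)) hg (Ideal.quotientEquivAlgOfEq S hk
      ((Ideal.quotientKerAlgEquivOfSurjective (f := (f : X →ₐ[S] Y)) hf).symm (f x))) = g x
    rw [h1]; rfl
  have h1 : (Bialgebra.counitAlgHom S Z).comp e.toAlgHom = Bialgebra.counitAlgHom S Y := by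
    refine AlgHom.ext fun y => ?_
    obtain ⟨x, rfl⟩ := hf y
    show counit (R := S) (e (f x)) = counit (R := S) (f x)
    rw [he, CoalgHomClass.counit_comp_apply, CoalgHomClass.counit_comp_apply]
  have h2 : (Algebra.TensorProduct.map e.toAlgHom e.toAlgHom).comp (Bialgebra.comulAlgHom S Y) =
      (Bialgebra.comulAlgHom S Z).comp e.toAlgHom := by
    refine AlgHom.ext fun y => ?_
    obtain ⟨x, rfl⟩ := hf y
    show Algebra.TensorProduct.map e.toAlgHom e.toAlgHom (comul (R := S) (f x)) = comul (R := S) (e (f x))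
    rw [he, ← CoalgHomClass.map_comp_comul_apply f x, ← CoalgHomClass.map_comp_comul_apply g x]
    induction comul (R := S) x using TensorProduct.induction_on with
    | zero => simp
    | add a b ha hb => simp only [map_add, ha, hb]
    | tmul a b =>
      show e (f a) ⊗ₜ[S] e (f b) = g a ⊗ₜ[S] g b
      rw [he, he]
  exact ⟨BialgEquiv.ofAlgEquiv e h1 h2, he⟩

theorem isIsotrivial_congr {S : Type u} [CommRing S] {X Y : Type u} [CommRing X] [HopfAlgebra S X] [CommRing Y]
    [HopfAlgebra S Y] (e : X ≃ₐc[S] Y) (h : SGA3b.IsIsotrivial S X) : SGA3b.IsIsotrivial S Y := by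
  obtain ⟨E, _, _, h1, h2, h3, hd⟩ := h
  exact ⟨E, inferInstance, inferInstance, h1, h2, h3, isDiag_congr (Groth.Agent.MultTypeLib.congrBase E e) hd⟩

theorem isIsotrivial_baseChange {S : Type u} [CommRing S] (T : Type u) [CommRing T] [Algebra S T] {X : Type u}
    [CommRing X] [HopfAlgebra S X] (h : SGA3b.IsIsotrivial S X) : SGA3b.IsIsotrivial T (T ⊗[S] X) := by
  obtain ⟨E, _, _, het, hfin, hff, hd⟩ := h
  let _ : Algebra E (T ⊗[S] E) := Algebra.TensorProduct.rightAlgebra
  have : IsScalarTower S E (T ⊗[S] E) := Algebra.TensorProduct.right_isScalarTower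
  exact ⟨T ⊗[S] E, inferInstance, inferInstance, inferInstance, inferInstance, inferInstance,
    isDiag_congr (baseChangeTrans (R := S) T (T ⊗[S] E) X) (isDiag_baseChange E (T ⊗[S] E) hd)⟩

section Push

variable {S : Type u} [CommRing S] [Algebra A S] (o : OpenClosed A C S)
variable (T : Type u) [CommRing T] [Algebra A T] [Algebra S T] [IsScalarTower A S T]

/-- Base change of an open and closed subgroup. -/
def OpenClosed.push : OpenClosed A C T where
  D := T ⊗[S] o.D
  π := (bcHom T o.π).comp (baseChangeTrans (R := A) S T C : T ⊗[A] C →ₐc[T] T ⊗[S] (S ⊗[A] C))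
  surj := fun y => by
    obtain ⟨z, rfl⟩ := LinearMap.lTensor_surjective T (g := (o.π : S ⊗[A] C →ₐ[S] o.D).toLinearMap) o.surj y
    refine ⟨(baseChangeTrans (R := A) S T C).symm z, ?_⟩
    show bcHom T o.π (baseChangeTrans (R := A) S T C ((baseChangeTrans (R := A) S T C).symm z)) = _
    rw [BialgEquiv.apply_symm_apply]
    induction z using TensorProduct.induction_on with
    | zero => simp
    | add a b ha hb => simp only [map_add, ha, hb]
    | tmul a b => rfl
  x := mA C (IsScalarTower.toAlgHom A S T) o.x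
  idem := o.idem.map _
  ker y := by
    have hbt : ∀ z : S ⊗[A] C, baseChangeTrans (R := A) S T C (mA C (IsScalarTower.toAlgHom A S T) z) =
        (1 : T) ⊗ₜ[S] z := by
      intro z
      induction z using TensorProduct.induction_on with
      | zero => simp
      | add a b ha hb => simp only [map_add, ha, hb, TensorProduct.tmul_add]
      | tmul a b =>
        rw [Algebra.TensorProduct.map_tmul, AlgHom.id_apply, IsScalarTower.coe_toAlgHom',
          show (algebraMap S T a ⊗ₜ[A] b : T ⊗[A] C) = algebraMap S T a • ((1 : T) ⊗ₜ b) by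
            rw [TensorProduct.smul_tmul', smul_eq_mul, mul_one],
          map_smul, Groth.Agent.MultTypeLib.baseChangeTrans_one_tmul, algebraMap_smul,
          ← TensorProduct.tmul_smul, TensorProduct.smul_tmul', smul_eq_mul, mul_one]
    have hb : ∀ z : T ⊗[S] (S ⊗[A] C), bcHom T o.π z =
        Algebra.TensorProduct.map (AlgHom.id S T) (o.π : S ⊗[A] C →ₐ[S] o.D) z := by
      intro z
      induction z using TensorProduct.induction_on with
      | zero => simp
      | add a b ha hb => simp only [map_add, ha, hb]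
      | tmul a b => rfl
    show bcHom T o.π (baseChangeTrans (R := A) S T C y) = 0 ↔ _
    rw [hb, ← RingHom.mem_ker, Algebra.TensorProduct.lTensor_ker (o.π : S ⊗[A] C →ₐ[S] o.D) o.surj, o.ker_eq,
      Ideal.map_span, Set.image_singleton, Algebra.TensorProduct.includeRight_apply, ← hbt,
      Ideal.mem_span_singleton, Ideal.mem_span_singleton]
    exact map_dvd_iff (baseChangeTrans (R := A) S T C : T ⊗[A] C ≃ₐ[T] T ⊗[S] (S ⊗[A] C))

theorem OpenClosed.push_x : (o.push T).x = mA C (IsScalarTower.toAlgHom A S T) o.x := rfl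

theorem OpenClosed.push_isotrivial (h : SGA3b.IsIsotrivial S o.D) : SGA3b.IsIsotrivial T (o.push T).D :=
  isIsotrivial_baseChange T h

end Push

/-- Subgroups with the same idempotent are isomorphic. -/
theorem OpenClosed.equiv_of_x_eq {S : Type u} [CommRing S] [Algebra A S] (o o' : OpenClosed A C S)
    (h : o.x = o'.x) : Nonempty (o.D ≃ₐc[S] o'.D) := by
  obtain ⟨θ, -⟩ := exists_bialgEquiv o.π o'.π o.surj o'.surj fun y => by rw [o.ker, o'.ker, h]
  exact ⟨θ⟩

end Groth.Agent.HenselHom
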